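import Groth.Agent.H1WE.Olivier
import Groth.Agent.S0678
import Groth.Agent.S7127

/-!
# w-contractible rings

`Spec A` w-local with extremally disconnected space of components and strictly henselian local rings at
maximal ideals imply that faithfully flat weakly etale algebras have retractions.
-/

set_option autoImplicit false
set_option linter.style.haveILetI false
universe u

namespace Groth.Agent.H1WE

open IsLocalRing Topology Groth.Agent.H1CAlg TensorProduct

/-- Localisations are weakly etale. -/
theorem weaklyEtale_of_isLocalization {R : Type u} [CommRing R] (M : Submonoid R) (S : Type u) [CommRing S]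
    [Algebra R S] [IsLocalization M S] : Algebra.WeaklyEtale R S := by
  haveI : Module.Flat R S := IsLocalization.flat S M
  haveI : Algebra.IsEpi R S := (Algebra.isEpi_iff_forall_one_tmul_eq R S).mpr fun x => by
    obtain ⟨r, m, rfl⟩ := IsLocalization.exists_mk'_eq M x
    have hu : IsUnit ((algebraMap R S m) ⊗ₜ[R] (1 : S)) :=
      (IsLocalization.map_units S m).map (Algebra.TensorProduct.includeLeft : S →ₐ[R] S ⊗[R] S)
    have h : ∀ t : R, (algebraMap R S t ⊗ₜ[R] (1 : S)) = (1 : S) ⊗ₜ[R] algebraMap R S t := fun t => by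
      rw [Algebra.algebraMap_eq_smul_one, TensorProduct.smul_tmul]
    refine hu.mul_left_cancel ?_
    rw [Algebra.TensorProduct.tmul_mul_tmul, Algebra.TensorProduct.tmul_mul_tmul, one_mul, mul_one,
      IsLocalization.mk'_spec', one_mul, h r, ← IsLocalization.mk'_spec' S r m]
    calc algebraMap R S m ⊗ₜ[R] IsLocalization.mk' S r m
        = (algebraMap R S m ⊗ₜ[R] (1 : S)) * ((1 : S) ⊗ₜ[R] IsLocalization.mk' S r m) := by
          rw [Algebra.TensorProduct.tmul_mul_tmul, mul_one, one_mul]
      _ = _ := by rw [h, Algebra.TensorProduct.tmul_mul_tmul, one_mul]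
  refine ⟨inferInstance, RingHom.Flat.of_bijective ⟨?_, fun s => ⟨s ⊗ₜ 1, by simp⟩⟩⟩
  intro x y hxy
  apply Algebra.IsEpi.injective_lift_mul
  have key : ∀ z : S ⊗[R] S, TensorProduct.lift (LinearMap.mul R S) z = Algebra.TensorProduct.lmul' R z := fun z => by
    induction z with
    | zero => simp
    | tmul a b => simp
    | add a b ha hb => rw [map_add, map_add, ha, hb]
  rw [key, key]
  exact hxy

variable {A : Type u} [CommRing A]

/-- Over a maximal ideal with strictly henselian local ring, a weakly etale algebra has trivial local rings. -/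
theorem bijective_localRingHom {C : Type u} [CommRing C] [Algebra A C] [Algebra.WeaklyEtale A C] (m : Ideal A)
    [m.IsMaximal] (hm : EtCoh.IsStrictlyHenselianLocalRing (Localization.AtPrime m)) (q : Ideal C) [q.IsPrime]
    (hq : m = q.comap (algebraMap A C)) :
    Function.Bijective (Localization.localRingHom m q (algebraMap A C) hq) := by
  obtain ⟨_, _⟩ := hm
  let Am := Localization.AtPrime m
  let Cq := Localization.AtPrime q
  let φ := Localization.localRingHom m q (algebraMap A C) hq
  letI : Algebra Am Cq := φ.toAlgebra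
  haveI : IsLocalHom (algebraMap Am Cq) := Localization.isLocalHom_localRingHom m q _ _
  haveI : IsScalarTower A Am Cq := IsScalarTower.of_algebraMap_eq fun a => by
    show algebraMap A Cq a = φ (algebraMap A Am a)
    rw [Localization.localRingHom_to_map, ← IsScalarTower.algebraMap_apply]
  haveI : Algebra.WeaklyEtale C Cq := weaklyEtale_of_isLocalization q.primeCompl Cq
  haveI : Algebra.WeaklyEtale A Cq := Algebra.WeaklyEtale.trans A C Cq
  haveI : Algebra.WeaklyEtale A Am := weaklyEtale_of_isLocalization m.primeCompl Am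
  haveI : Algebra.WeaklyEtale Am Cq := Groth.Agent.S7127.result A Am Cq
  exact bijective_of_weaklyEtale (A := Am) (B := Cq)

/-- Primes over such a maximal ideal are maximal. -/
theorem isMaximal_of_comap_eq {C : Type u} [CommRing C] [Algebra A C] [Algebra.WeaklyEtale A C] (m : Ideal A)
    [m.IsMaximal] (hm : EtCoh.IsStrictlyHenselianLocalRing (Localization.AtPrime m)) (q : Ideal C) [q.IsPrime]
    (hq : m = q.comap (algebraMap A C)) : q.IsMaximal := by
  obtain ⟨n, hn, hle⟩ := Ideal.exists_le_maximal q (Ideal.IsPrime.ne_top inferInstance)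
  haveI := hn.isPrime
  have hnm : m = n.comap (algebraMap A C) :=
    (‹m.IsMaximal›).eq_of_le (Ideal.comap_ne_top _ hn.ne_top) (hq.le.trans (Ideal.comap_mono hle))
  suffices n ≤ q by rwa [le_antisymm hle this]
  intro x hx
  obtain ⟨z, hz⟩ := (bijective_localRingHom m hm n hnm).2 (algebraMap C (Localization.AtPrime n) x)
  obtain ⟨a, ⟨s, hs⟩, rfl⟩ := IsLocalization.exists_mk'_eq m.primeCompl z
  rw [Localization.localRingHom_mk', IsLocalization.mk'_eq_iff_eq_mul, ← map_mul] at hz
  obtain ⟨⟨t, ht⟩, hts⟩ := IsLocalization.exists_of_eq (M := n.primeCompl) hz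
  have ha : algebraMap A C a ∈ n := by
    refine (hn.isPrime.mem_or_mem ?_).resolve_left ht
    rw [hts]
    exact n.mul_mem_left t (n.mul_mem_right _ hx)
  have haq : algebraMap A C a ∈ q := hq.le (hnm.ge ha)
  have h1 : t * (x * algebraMap A C s) ∈ q := by rw [← hts]; exact q.mul_mem_left t haq
  exact ((Ideal.IsPrime.mem_or_mem inferInstance ((Ideal.IsPrime.mem_or_mem inferInstance h1).resolve_left
    fun h => ht (hle h)))).resolve_right fun h => hs (hq.ge h)

/-- The criterion: w-local, extremally disconnected components, strictly henselian at maximal ideals. -/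
theorem isWContractible (hw : ProEtW.IsWLocal (PrimeSpectrum A))
    (hED : ExtremallyDisconnected (ConnectedComponents (PrimeSpectrum A)))
    (hsh : ∀ (m : Ideal A) [m.IsMaximal], EtCoh.IsStrictlyHenselianLocalRing (Localization.AtPrime m)) :
    EtPBC.IsWContractible A := by
  intro B _ _ hff hwe
  haveI := hff
  haveI := hwe
  let J : Ideal A := PrimeSpectrum.vanishingIdeal (ProEtW.closedPoints (PrimeSpectrum A))
  have hS : WLoc.Split A J := WLoc.split_of_isWLocal hw
  haveI := hS.t2Space_connectedComponents
  have hmax0 : ∀ q : Ideal B, q.IsPrime → J.map (algebraMap A B) ≤ q → q.IsMaximal := fun q hq hle => by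
    haveI := hq
    haveI := hS.isMaximal_of_le (q := q.comap (algebraMap A B)) (Ideal.map_le_iff_le_comap.1 hle)
    exact isMaximal_of_comap_eq _ (hsh _) q rfl
  let J' := J.map (algebraMap A B)
  let k0 := B ⧸ J'
  have hk0 : ∀ P : Ideal k0, P.IsPrime → P.IsMaximal := Groth.Agent.S0678.isMaximal_quotient _ hmax0
  haveI : T2Space (PrimeSpectrum k0) := Groth.Agent.S0678.t2Space_of_isMaximal hk0
  let ρ : PrimeSpectrum k0 → PrimeSpectrum A :=
    PrimeSpectrum.comap ((Ideal.Quotient.mk J').comp (algebraMap A B))
  have hρJ : ∀ x : PrimeSpectrum k0, J ≤ (ρ x).asIdeal := fun x a ha => by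
    show Ideal.Quotient.mk J' (algebraMap A B a) ∈ x.asIdeal
    rw [Ideal.Quotient.eq_zero_iff_mem.2 (Ideal.mem_map_of_mem _ ha)]
    exact x.asIdeal.zero_mem
  let p0 : PrimeSpectrum k0 → ConnectedComponents (PrimeSpectrum A) := fun x => ConnectedComponents.mk (ρ x)
  have hp0 : Continuous p0 := ConnectedComponents.continuous_coe.comp (PrimeSpectrum.continuous_comap _)
  have hp0s : Function.Surjective p0 := fun c => by
    obtain ⟨⟨z, hz⟩, rfl⟩ := hS.bijective_mk.2 c
    obtain ⟨b, hb⟩ := PrimeSpectrum.comap_surjective_of_faithfullyFlat (A := A) (B := B) z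
    have hJb : J' ≤ b.asIdeal := Ideal.map_le_iff_le_comap.2 fun a ha => by
      have : a ∈ (PrimeSpectrum.comap (algebraMap A B) b).asIdeal := hb ▸ hz ha
      exact this
    obtain ⟨x, hx⟩ : b ∈ Set.range (PrimeSpectrum.comap (Ideal.Quotient.mk J')) := by
      rw [range_comap_of_surjective _ _ Ideal.Quotient.mk_surjective, Ideal.mk_ker]
      exact hJb
    refine ⟨x, ?_⟩
    show ConnectedComponents.mk (ρ x) = _
    simp only [ρ, PrimeSpectrum.comap_comp_apply, hx, hb]
  obtain ⟨σ, hσ, hpσ⟩ := CompactT2.ExtremallyDisconnected.projective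
    (A := ConnectedComponents (PrimeSpectrum A)) continuous_id hp0 hp0s
  -- the chosen closed set of maximal ideals of `B` over the closed points
  let Q : ConnectedComponents (PrimeSpectrum A) → PrimeSpectrum B := fun c =>
    PrimeSpectrum.comap (Ideal.Quotient.mk J') (σ c)
  let T := Set.range Q
  have hTclosed : IsClosed T := by
    have h1 : IsClosed (Set.range σ) := (isCompact_range hσ).isClosed
    have h2 : T = PrimeSpectrum.comap (Ideal.Quotient.mk J') '' Set.range σ := by
      rw [← Set.range_comp]; rfl
    rw [h2]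
    exact (PrimeSpectrum.isClosedEmbedding_comap_of_surjective _ _ Ideal.Quotient.mk_surjective).isClosedMap _ h1
  let I := PrimeSpectrum.vanishingIdeal T
  have hI : ∀ x : PrimeSpectrum B, I ≤ x.asIdeal → x ∈ T := fun x hx => by
    have : x ∈ PrimeSpectrum.zeroLocus (I : Set B) := hx
    rwa [PrimeSpectrum.zeroLocus_vanishingIdeal_eq_closure, hTclosed.closure_eq] at this
  let S : Submonoid B := ⨅ c, (Q c).asIdeal.primeCompl
  let C := Localization S
  have hmem : ∀ y : B, y ∈ S ↔ ∀ c, y ∉ (Q c).asIdeal := fun y => Submonoid.mem_iInf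
  have hunder : ∀ P : Ideal B, P.IsPrime → Disjoint (S : Set B) P → ∃ c, P ≤ (Q c).asIdeal := fun P hP hd => by
    by_cases htop : P ⊔ I = ⊤
    · exfalso
      obtain ⟨y, hy, i, hi, hyi⟩ := Submodule.mem_sup.mp ((Ideal.eq_top_iff_one _).mp htop)
      refine Set.disjoint_left.mp hd ((hmem y).mpr fun c hc => ?_) hy
      have hi' : i ∈ (Q c).asIdeal := (PrimeSpectrum.mem_vanishingIdeal T i).mp hi _ ⟨c, rfl⟩
      exact (Q c).isPrime.ne_top ((Ideal.eq_top_iff_one _).mpr (hyi ▸ add_mem hc hi'))
    · obtain ⟨M, hM, hle⟩ := Ideal.exists_le_maximal _ htop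
      obtain ⟨c, hc⟩ := hI ⟨M, hM.isPrime⟩ (le_sup_right.trans hle)
      exact ⟨c, le_sup_left.trans (hle.trans (congrArg PrimeSpectrum.asIdeal hc).ge)⟩
  haveI : Algebra.WeaklyEtale B C := weaklyEtale_of_isLocalization S C
  haveI : Algebra.WeaklyEtale A C := Algebra.WeaklyEtale.trans A B C
  haveI : Module.Flat A C := Algebra.WeaklyEtale.flat
  let q : ConnectedComponents (PrimeSpectrum A) → Ideal C := fun c => (Q c).asIdeal.map (algebraMap B C)
  have hdisj : ∀ c, Disjoint (S : Set B) ((Q c).asIdeal : Set B) := fun c =>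
    Set.disjoint_left.mpr fun y hy hyc => (hmem y).mp hy c hyc
  have hqp : ∀ c, (q c).IsPrime := fun c =>
    IsLocalization.isPrime_of_isPrime_disjoint S C _ (Q c).isPrime (hdisj c)
  have hqB : ∀ c, (q c).comap (algebraMap B C) = (Q c).asIdeal := fun c =>
    IsLocalization.comap_map_of_isPrime_disjoint S C (Q c).isPrime (hdisj c)
  have hqA : ∀ c, (q c).comap (algebraMap A C) = (ρ (σ c)).asIdeal := fun c => by
    rw [IsScalarTower.algebraMap_eq A B C, ← Ideal.comap_comap, hqB]
    rfl
  have hle_q : ∀ n : Ideal C, n.IsPrime → ∃ c, n ≤ q c := fun n hn => by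
    obtain ⟨hn1, hn2⟩ := (IsLocalization.isPrime_iff_isPrime_disjoint S C n).mp hn
    obtain ⟨c, hc⟩ := hunder _ hn1 hn2
    exact ⟨c, by rw [← IsLocalization.map_under S C n]; exact Ideal.map_mono hc⟩
  have hbij : Function.Bijective (algebraMap A C) := by
    have hloc : ∀ (m : Ideal A) [m.IsMaximal], ∃ (n : Ideal C) (_ : n.IsPrime) (hn : m = n.comap (algebraMap A C)),
        ∀ P : Ideal C, P.IsPrime → P.comap (algebraMap A C) ≤ m → P ≤ n := by
      intro m hm
      let c : ConnectedComponents (PrimeSpectrum A) := ConnectedComponents.mk ⟨m, hm.isPrime⟩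
      have hc : m = (q c).comap (algebraMap A C) := by
        rw [hqA]
        exact congrArg (fun w => w.1.asIdeal) (@hS.bijective_mk.1 ⟨⟨m, hm.isPrime⟩, hS.le_of_isMaximal hm⟩
          ⟨ρ (σ c), hρJ _⟩ (congrFun hpσ c).symm)
      refine ⟨q c, hqp c, hc, fun P hP hPm => ?_⟩
      obtain ⟨c', hc'⟩ := hle_q P hP
      suffices c' = c by rwa [this] at hc'
      haveI := hS.isMaximal_of_le (q := (ρ (σ c')).asIdeal) (hρJ _)
      have h6 : (ρ (σ c')).asIdeal = m := hS.eq_of_le_of_le (q := P.comap (algebraMap A C))
        this hm ((Ideal.comap_mono hc').trans (hqA c').le) hPm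
      calc c' = p0 (σ c') := (congrFun hpσ c').symm
        _ = c := congrArg ConnectedComponents.mk (PrimeSpectrum.ext h6)
    constructor
    · refine (injective_iff_map_eq_zero _).mpr fun a ha => ?_
      have hann : Ideal.span {x : A | x * a = 0} = ⊤ := by
        by_contra hne
        obtain ⟨m, hm, hle⟩ := Ideal.exists_le_maximal _ hne
        obtain ⟨n, hn', hn, -⟩ := hloc m
        haveI := hn'
        have h0 := (bijective_localRingHom m (hsh m) n hn).1
          (a₁ := algebraMap A (Localization.AtPrime m) a) (a₂ := 0)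
          (by rw [Localization.localRingHom_to_map, ha, map_zero, map_zero])
        obtain ⟨⟨t, ht⟩, hta⟩ := (IsLocalization.map_eq_zero_iff m.primeCompl _ a).mp h0
        exact ht (hle (Ideal.subset_span hta))
      have h1 : (1 : A) ∈ Ideal.span {x : A | x * a = 0} := hann ▸ Submodule.mem_top
      have : ∀ x ∈ Ideal.span {x : A | x * a = 0}, x * a = 0 := fun x hx => by
        induction hx using Submodule.span_induction with
        | mem y hy => exact hy
        | zero => exact zero_mul a
        | add y z _ _ hy hz => rw [add_mul, hy, hz, add_zero]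
        | smul r y _ hy => rw [smul_eq_mul, mul_assoc, hy, mul_zero]
      simpa using this 1 h1
    · intro y
      have hcol : Ideal.span {x : A | ∃ a, algebraMap A C a = algebraMap A C x * y} = ⊤ := by
        by_contra hne
        obtain ⟨m, hm, hle⟩ := Ideal.exists_le_maximal _ hne
        obtain ⟨n, hn', hn, hu⟩ := hloc m
        haveI := hn'
        obtain ⟨z, hz⟩ := (bijective_localRingHom m (hsh m) n hn).2 (algebraMap C _ y)
        obtain ⟨a, ⟨s, hs⟩, rfl⟩ := IsLocalization.exists_mk'_eq m.primeCompl z
        rw [Localization.localRingHom_mk', IsLocalization.mk'_eq_iff_eq_mul, ← map_mul] at hz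
        obtain ⟨⟨t, ht⟩, hts⟩ := IsLocalization.exists_of_eq (M := n.primeCompl) hz
        -- `t` becomes invertible after inverting a single element of `A` outside `m`
        obtain ⟨v, hv, w, hvw⟩ : ∃ v ∉ m, ∃ w, w * t = algebraMap A C v := by
          by_contra hno
          push Not at hno
          have hd : Disjoint ((Ideal.span {t} : Ideal C) : Set C) (Algebra.algebraMapSubmonoid C m.primeCompl) :=
            Set.disjoint_left.mpr fun c hc hc' => by
              obtain ⟨w, rfl⟩ := Ideal.mem_span_singleton'.mp hc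
              obtain ⟨v, hv, hvw⟩ := hc'
              exact hno v hv w hvw.symm
          obtain ⟨P, hP, htP, hPd⟩ := Ideal.exists_le_prime_disjoint _ _ hd
          refine ht (hu P hP (fun a' ha' => ?_) (htP (Ideal.mem_span_singleton_self t)))
          by_contra hnot
          exact Set.disjoint_left.mp hPd ha' ⟨a', hnot, rfl⟩
        have hmem' : v * s ∈ {x : A | ∃ a, algebraMap A C a = algebraMap A C x * y} := ⟨v * a, by
          rw [map_mul, map_mul, ← hvw]
          linear_combination w * hts⟩
        exact (mul_mem (s := m.primeCompl) hv hs : v * s ∈ m.primeCompl) (hle (Ideal.subset_span hmem'))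
      have h1 : (1 : A) ∈ Ideal.span {x : A | ∃ a, algebraMap A C a = algebraMap A C x * y} := hcol ▸ Submodule.mem_top
      have : ∀ x ∈ Ideal.span {x : A | ∃ a, algebraMap A C a = algebraMap A C x * y},
          ∃ a, algebraMap A C a = algebraMap A C x * y := fun x hx => by
        induction hx using Submodule.span_induction with
        | mem y hy => exact hy
        | zero => exact ⟨0, by simp⟩
        | add u v _ _ hu hv =>
          obtain ⟨a, ha⟩ := hu; obtain ⟨b, hb⟩ := hv
          exact ⟨a + b, by rw [map_add, map_add, add_mul, ha, hb]⟩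
        | smul r u _ hu =>
          obtain ⟨a, ha⟩ := hu
          exact ⟨r * a, by rw [map_mul, smul_eq_mul, map_mul, ha, mul_assoc]⟩
      simpa using this 1 h1
  exact ⟨((AlgEquiv.ofBijective (Algebra.ofId A C) hbij).symm.toAlgHom).comp (IsScalarTower.toAlgHom A B C)⟩

end Groth.Agent.H1WE
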