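import Groth.Agent.H8Props.WeakEtaleNormal
import Groth.Agent.H9Hens.BranchCount

/-!
# Olivier's theorem

A weakly etale local homomorphism out of a strictly henselian local ring is bijective.
-/

set_option autoImplicit false
set_option linter.style.haveILetI false
universe u

namespace Groth.Agent.H1WE

open TensorProduct IsLocalRing Polynomial

variable {A B : Type u} [CommRing A] [CommRing B] [HenselianLocalRing A] [IsLocalRing B]
  [IsSepClosed (ResidueField A)] [Algebra A B] [IsLocalHom (algebraMap A B)] [Algebra.WeaklyEtale A B]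

/-- The residue field does not grow. -/
theorem exists_sub_mem (x : B) : ∃ a : A, x - algebraMap A B a ∈ maximalIdeal B := by
  let k := ResidueField A
  let κ := ResidueField B
  letI : Algebra k κ := (ResidueField.map (algebraMap A B)).toAlgebra
  haveI : IsScalarTower A k κ := IsScalarTower.of_algebraMap_eq fun _ => rfl
  let F : k ⊗[A] B →ₐ[k] κ := Algebra.TensorProduct.lift (Algebra.ofId k κ)
    (IsScalarTower.toAlgHom A B κ) fun _ _ => Commute.all _ _
  obtain ⟨P, hP, hroot⟩ := (H9WE.isSep_of_weaklyEtale k ((1 : k) ⊗ₜ[A] x)).map F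
  have hs : (P.map (RingHom.id k)).Splits := IsSepClosed.splits_of_separable _ (hP.map)
  rw [Polynomial.map_id] at hs
  obtain ⟨c, hc⟩ := hs.mem_range_of_isRoot hP.ne_zero
    (show (P.map (algebraMap k κ)).IsRoot (F ((1 : k) ⊗ₜ[A] x)) by rw [IsRoot.def, eval_map]; exact hroot)
  obtain ⟨a, rfl⟩ := residue_surjective c
  refine ⟨a, (residue_eq_zero_iff _).mp ?_⟩
  have hx : F ((1 : k) ⊗ₜ[A] x) = residue B x := by simp [F]; rfl
  rw [map_sub, ← hx, ← hc]
  exact sub_self _

/-- A normal domain integral over the base gives a domain. -/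
theorem isDomain_tensor_of_integral (C : Type u) [CommRing C] [IsDomain C] [IsIntegrallyClosed C] [Algebra A C]
    [Algebra.IsIntegral A C] : IsDomain (C ⊗[A] B) := by
  obtain ⟨e₁⟩ := H9Hens.nonempty_maximalSpectrum_tensor_equiv C (exists_sub_mem (A := A) (B := B))
  obtain ⟨e₂⟩ := H9Hens.nonempty_maximalSpectrum_congr (Algebra.TensorProduct.comm A B C).toRingEquiv
  let e := e₂.symm.trans e₁
  haveI : Subsingleton (MaximalSpectrum C) := ⟨fun M N => MaximalSpectrum.ext <| by
    haveI := M.isMaximal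
    haveI := N.isMaximal
    exact H9Hens.maximal_eq_of_prime_le_of_isIntegral (R := A) (P := (⊥ : Ideal C)) bot_le bot_le⟩
  obtain ⟨M, hM⟩ := Ideal.exists_maximal C
  haveI : Subsingleton (MaximalSpectrum (C ⊗[A] B)) := e.subsingleton
  haveI : IsLocalRing (C ⊗[A] B) := IsLocalRing.of_unique_max_ideal
    ⟨(e.symm ⟨M, hM⟩).asIdeal, (e.symm ⟨M, hM⟩).isMaximal, fun N hN =>
      congrArg MaximalSpectrum.asIdeal (Subsingleton.elim ⟨N, hN⟩ (e.symm ⟨M, hM⟩))⟩
  exact (H8Props.WeakEtaleNormal.isDomain_and_isIntegrallyClosed_of_weaklyEtale C (C ⊗[A] B)).1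

/-- Base change to an algebraic extension of a residue field gives a domain. -/
theorem isDomain_tensor_field (p : Ideal A) [p.IsPrime] (L : Type u) [Field L] [Algebra p.ResidueField L]
    [Algebra.IsAlgebraic p.ResidueField L] [Algebra A L] [IsScalarTower A p.ResidueField L] :
    IsDomain (L ⊗[A] B) := by
  let K := p.ResidueField
  let C := integralClosure A L
  letI : Algebra (A ⧸ p) L := ((algebraMap K L).comp (algebraMap (A ⧸ p) K)).toAlgebra
  haveI : IsScalarTower (A ⧸ p) K L := IsScalarTower.of_algebraMap_eq fun _ => rfl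
  haveI : IsScalarTower A (A ⧸ p) L := IsScalarTower.of_algebraMap_eq fun a => by
    show algebraMap A L a = algebraMap K L (algebraMap (A ⧸ p) K (algebraMap A (A ⧸ p) a))
    rw [← IsScalarTower.algebraMap_apply A (A ⧸ p) K, ← IsScalarTower.algebraMap_apply]
  haveI : Algebra.IsIntegral A (A ⧸ p) := Algebra.IsIntegral.of_surjective (Algebra.ofId A _) Ideal.Quotient.mk_surjective
  haveI : Algebra.IsIntegral A C := IsIntegralClosure.isIntegral_algebra A L
  haveI : IsIntegrallyClosed C := by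
    haveI : IsIntegrallyClosedIn C L := isIntegrallyClosedIn_iff.mpr
      ⟨Subtype.val_injective, fun {x} hx => ⟨⟨x, isIntegral_trans (R := A) (A := C) x hx⟩, rfl⟩⟩
    exact IsIntegrallyClosed.of_isIntegrallyClosedIn C L
  haveI := isDomain_tensor_of_integral (A := A) (B := B) C
  let ι : C ⊗[A] B →ₐ[A] L ⊗[A] B := Algebra.TensorProduct.map C.val (AlgHom.id A B)
  have hι : Function.Injective ι :=
    Module.Flat.rTensor_preserves_injective_linearMap (M := B) C.val.toLinearMap Subtype.val_injective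
  have hL : ∀ l : L, ∃ a : A, algebraMap A L a ≠ 0 ∧ IsIntegral A (algebraMap A L a * l) := fun l => by
    obtain ⟨⟨m, hm⟩, hml⟩ := IsIntegral.exists_multiple_integral_of_isLocalization (nonZeroDivisors (A ⧸ p))
      (Rₘ := K) l (Algebra.IsIntegral.isIntegral l)
    obtain ⟨a, rfl⟩ := Ideal.Quotient.mk_surjective m
    refine ⟨a, fun h => nonZeroDivisors.ne_zero hm ?_, ?_⟩
    · apply IsFractionRing.injective (A ⧸ p) K
      apply (algebraMap K L).injective
      rw [map_zero, map_zero]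
      exact (IsScalarTower.algebraMap_apply A (A ⧸ p) L a).symm.trans h
    · have := isIntegral_trans (R := A) _ hml
      rw [Submonoid.smul_def, Algebra.smul_def] at this
      change IsIntegral A (algebraMap (A ⧸ p) L (algebraMap A (A ⧸ p) a) * l) at this
      rwa [← IsScalarTower.algebraMap_apply] at this
  have hfrac : ∀ x : L ⊗[A] B, ∃ (a : A) (y : C ⊗[A] B), algebraMap A L a ≠ 0 ∧
      (algebraMap A L a ⊗ₜ[A] (1 : B)) * x = ι y := fun x => by
    induction x with
    | zero => exact ⟨1, 0, by simp, by simp⟩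
    | tmul l b =>
      obtain ⟨a, ha, hint⟩ := hL l
      exact ⟨a, ⟨_, hint⟩ ⊗ₜ b, ha, by simp [ι]⟩
    | add x y hx hy =>
      obtain ⟨a, u, ha, hu⟩ := hx
      obtain ⟨c, v, hc, hv⟩ := hy
      refine ⟨a * c, algebraMap A (C ⊗[A] B) c * u + algebraMap A (C ⊗[A] B) a * v,
        by rw [map_mul]; exact mul_ne_zero ha hc, ?_⟩
      have h1 : ∀ r : A, (algebraMap A L r ⊗ₜ[A] (1 : B)) = ι (algebraMap A (C ⊗[A] B) r) := fun r => by
        rw [AlgHom.commutes]; rfl
      rw [map_add, map_mul, map_mul, map_mul, ← h1, ← h1, ← hu, ← hv,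
        show (algebraMap A L a * algebraMap A L c) ⊗ₜ[A] (1 : B) =
          (algebraMap A L a ⊗ₜ[A] (1 : B)) * (algebraMap A L c ⊗ₜ[A] (1 : B)) by simp]
      ring
  have hu : ∀ a : A, algebraMap A L a ≠ 0 → IsUnit ((algebraMap A L a ⊗ₜ[A] (1 : B) : L ⊗[A] B)) := fun a ha =>
    (isUnit_iff_ne_zero.mpr ha).map (Algebra.TensorProduct.includeLeft : L →ₐ[A] L ⊗[A] B)
  haveI : Nontrivial (L ⊗[A] B) := hι.nontrivial
  haveI : NoZeroDivisors (L ⊗[A] B) := ⟨fun {x y} hxy => by
    obtain ⟨a, u, ha, hu'⟩ := hfrac x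
    obtain ⟨c, v, hc, hv⟩ := hfrac y
    have h0 : u * v = 0 := hι (by rw [map_mul, ← hu', ← hv, map_zero, mul_mul_mul_comm, hxy, mul_zero])
    rcases mul_eq_zero.mp h0 with h | h
    · left; rw [h, map_zero] at hu'; exact (hu a ha).mul_right_eq_zero.mp hu'
    · right; rw [h, map_zero] at hv; exact (hu c hc).mul_right_eq_zero.mp hv⟩
  exact NoZeroDivisors.to_isDomain _

/-- An element whose two images in the tensor square agree comes from the base field. -/
theorem mem_range_of_tmul_eq {K L : Type u} [Field K] [CommRing L] [Nontrivial L] [Algebra K L] {z : L}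
    (h : z ⊗ₜ[K] (1 : L) = (1 : L) ⊗ₜ[K] z) : z ∈ Set.range (algebraMap K L) := by
  obtain ⟨φ, hφ⟩ := (Algebra.linearMap K L).exists_leftInverse_of_injective
    (LinearMap.ker_eq_bot.mpr (algebraMap K L).injective)
  have h1 : φ 1 = 1 := by simpa using LinearMap.congr_fun hφ 1
  have h2 := congrArg (TensorProduct.lid K L ∘ₗ φ.rTensor L : L ⊗[K] L →ₗ[K] L) h
  simp [h1] at h2
  exact ⟨φ z, by rw [Algebra.algebraMap_eq_smul_one]; exact h2⟩

/-- The fibres are trivial. -/
theorem fibre_surjective (p : Ideal A) [p.IsPrime] :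
    Function.Surjective (algebraMap p.ResidueField (p.ResidueField ⊗[A] B)) := by
  let K := p.ResidueField
  let L := K ⊗[A] B
  haveI : IsDomain L := isDomain_tensor_field (B := B) p K
  have hV : H9WE.VNR L := H9WE.vnr_of_weaklyEtale K L
  have hF : IsField L := ⟨⟨0, 1, zero_ne_one⟩, mul_comm, fun {a} ha => by
    obtain ⟨c, hc⟩ := hV a
    exact ⟨c, mul_left_cancel₀ ha (by rw [mul_one, ← mul_assoc, ← hc])⟩⟩
  letI : Field L := hF.toField
  haveI : Algebra.IsAlgebraic K L := ⟨fun x => by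
    obtain ⟨P, hP, hx⟩ := H9WE.isSep_of_weaklyEtale K x
    exact ⟨P, hP.ne_zero, hx⟩⟩
  haveI : IsDomain (L ⊗[A] B) := isDomain_tensor_field p L
  haveI : IsDomain (L ⊗[K] L) :=
    (Algebra.TensorProduct.cancelBaseChange A K K L B).toRingEquiv.toMulEquiv.isDomain _
  intro z
  obtain ⟨P, hP, hz⟩ := H9WE.isSep_of_weaklyEtale K z
  refine mem_range_of_tmul_eq ?_
  obtain ⟨g, hg⟩ := dvd_iff_isRoot.mpr (show (P.map (algebraMap K L)).IsRoot z by rw [IsRoot.def, eval_map]; exact hz)
  let i₁ : L →ₐ[K] L ⊗[K] L := Algebra.TensorProduct.includeLeft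
  let i₂ : L →ₐ[K] L ⊗[K] L := Algebra.TensorProduct.includeRight
  let μ : L ⊗[K] L →ₐ[K] L := Algebra.TensorProduct.lmul' K
  have h0 : ((1 : L) ⊗ₜ[K] z - z ⊗ₜ[K] (1 : L)) * g.eval₂ i₁.toRingHom ((1 : L) ⊗ₜ[K] z) = 0 := by
    have h := congrArg (eval₂ i₁.toRingHom ((1 : L) ⊗ₜ[K] z)) hg
    rw [eval₂_mul, eval₂_sub, eval₂_X, eval₂_C, eval₂_map,
      show i₁.toRingHom.comp (algebraMap K L) = i₂.toRingHom.comp (algebraMap K L) from
        RingHom.ext fun c => by simp [i₁, i₂],
      show ((1 : L) ⊗ₜ[K] z : L ⊗[K] L) = i₂.toRingHom z from rfl,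
      ← hom_eval₂, show eval₂ (algebraMap K L) z P = 0 from hz, map_zero] at h
    exact h.symm
  rcases mul_eq_zero.mp h0 with h | h
  · exact (sub_eq_zero.mp h).symm
  · exfalso
    have h1 := congrArg μ h
    rw [map_zero, ← AlgHom.coe_toRingHom, hom_eval₂,
      show (μ : L ⊗[K] L →+* L).comp i₁.toRingHom = RingHom.id L from RingHom.ext fun x => by simp [μ, i₁],
      show (μ : L ⊗[K] L →+* L) ((1 : L) ⊗ₜ[K] z) = z by simp [μ]] at h1
    apply hP.aeval_derivative_ne_zero hz
    have h2 := congrArg derivative hg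
    rw [derivative_mul, derivative_map, derivative_sub, derivative_X, derivative_C, sub_zero, one_mul] at h2
    have h3 := congrArg (eval z) h2
    rw [eval_add, eval_mul, eval_sub, eval_X, eval_C, sub_self, zero_mul, add_zero, eval_map] at h3
    rw [aeval_def, h3]
    exact h1

/-- **Olivier's theorem**. -/
theorem bijective_of_weaklyEtale : Function.Bijective (algebraMap A B) := by
  haveI : Module.FaithfullyFlat A B := Module.FaithfullyFlat.of_flat_of_isLocalHom
  let μ : B ⊗[A] B →ₐ[A] B := Algebra.TensorProduct.lmul' A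
  have hμ : ∀ b c, μ (b ⊗ₜ c) = b * c := fun b c => by simp [μ]
  let I : Ideal (B ⊗[A] B) := RingHom.ker μ.toRingHom
  haveI : I.Pure := by
    letI : Algebra (B ⊗[A] B) B := μ.toRingHom.toAlgebra
    haveI : Module.Flat (B ⊗[A] B) B := Algebra.WeaklyEtale.flat_lmul' A B
    have hs : Function.Surjective (Algebra.linearMap (B ⊗[A] B) B) := fun b => ⟨b ⊗ₜ 1, by
      show μ (b ⊗ₜ 1) = b; rw [hμ, mul_one]⟩
    exact Module.Flat.of_linearEquiv ((Submodule.quotEquivOfEq I _ rfl).trans
      ((Algebra.linearMap (B ⊗[A] B) B).quotKerEquivOfSurjective hs))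
  have hI : ∀ Q : Ideal (B ⊗[A] B), Q.IsPrime → I ≤ Q := by
    intro Q hQ t ht
    let F := FractionRing ((B ⊗[A] B) ⧸ Q)
    let f : B ⊗[A] B →ₐ[A] F := IsScalarTower.toAlgHom A _ F
    have hf : ∀ x, f x = 0 ↔ x ∈ Q := fun x => by
      show algebraMap (B ⊗[A] B) F x = 0 ↔ _
      rw [IsScalarTower.algebraMap_apply (B ⊗[A] B) ((B ⊗[A] B) ⧸ Q) F,
        map_eq_zero_iff _ (IsFractionRing.injective _ F), Ideal.Quotient.algebraMap_eq, Ideal.Quotient.eq_zero_iff_mem]
    let f₁ : B →ₐ[A] F := f.comp Algebra.TensorProduct.includeLeft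
    let f₂ : B →ₐ[A] F := f.comp Algebra.TensorProduct.includeRight
    let p := RingHom.ker (algebraMap A F)
    haveI : p.IsPrime := RingHom.ker_isPrime _
    let g : p.ResidueField →ₐ[A] F := Ideal.ResidueField.liftₐ p (Algebra.ofId A F) le_rfl
      (fun x hx => isUnit_iff_ne_zero.mpr hx)
    have heq : ∀ b, f₁ b = f₂ b := fun b => by
      obtain ⟨c, hc⟩ := fibre_surjective (B := B) p ((1 : p.ResidueField) ⊗ₜ b)
      have key : ∀ φ : B →ₐ[A] F, φ b = g c := fun φ => by
        have := congrArg (Algebra.TensorProduct.lift g φ fun _ _ => Commute.all _ _) hc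
        rw [Algebra.TensorProduct.lift_tmul, map_one, one_mul,
          show algebraMap p.ResidueField (p.ResidueField ⊗[A] B) c = c ⊗ₜ (1 : B) from rfl,
          Algebra.TensorProduct.lift_tmul, map_one, mul_one] at this
        exact this.symm
      rw [key f₁, key f₂]
    have h : f = f₁.comp μ := Algebra.TensorProduct.ext' fun b c => by
      rw [AlgHom.comp_apply, hμ, map_mul, show b ⊗ₜ[A] c = (b ⊗ₜ[A] (1 : B)) * ((1 : B) ⊗ₜ[A] c) by simp, map_mul,
        heq c]
      rfl
    rw [← hf, h, AlgHom.comp_apply, show μ t = 0 from ht, map_zero]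
  have hinj : Function.Injective μ := (injective_iff_map_eq_zero μ).mpr fun t ht => by
    obtain ⟨y, hy, hty⟩ := Ideal.exists_eq_mul_of_pure (I := I) (show t ∈ I from ht)
    have hu : IsUnit (1 - y) := by
      by_contra hn
      obtain ⟨M, hM, hmem⟩ := exists_max_ideal_of_mem_nonunits hn
      exact hM.ne_top ((Ideal.eq_top_iff_one _).mpr (by simpa using M.add_mem hmem (hI M hM.isPrime hy)))
    exact hu.mul_left_eq_zero.mp (by rw [mul_sub, mul_one, ← hty, sub_self])
  refine Module.FaithfullyFlat.bijective_of_tensorProduct (S := B) (T := B) ⟨fun x y h => ?_, fun t => ⟨μ t, hinj ?_⟩⟩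
  · have := congrArg μ (show x ⊗ₜ[A] (1 : B) = y ⊗ₜ[A] (1 : B) from h)
    rwa [hμ, hμ, mul_one, mul_one] at this
  · show μ (μ t ⊗ₜ 1) = μ t
    rw [hμ, mul_one]

end Groth.Agent.H1WE
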