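import Groth.Prelude.Def_ProEtS
import Groth.Agent.S7286
import Groth.Agent.H26ProEt.WC
import Groth.Agent.H15Site.HUBasic

/-!
# Direct images preserving weakly contractible objects are exact
-/

set_option autoImplicit false
set_option linter.style.haveILetI false

universe u

open CategoryTheory CategoryTheory.Limits AlgebraicGeometry Opposite

namespace Groth.Agent.H1WE

/-- An epimorphism of abelian pro-etale sheaves is surjective on weakly contractible objects. -/
theorem surjective_app_of_isWC {X : Scheme.{u}} {F G : ProEtS.AbP X} (φ : F ⟶ G) [Epi φ] {U : X.ProEt}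
    (hU : ProEtS.IsWC U) : Function.Surjective (φ.hom.app (op U)).hom := by
  have h1 : Sheaf.IsLocallySurjective φ := (Sheaf.isLocallySurjective_iff_epi' _ _).2 inferInstance
  have h2 : Epi ((sheafCompose (Scheme.ProEt.topology X) (CategoryTheory.forget AddCommGrpCat.{u + 1})).map φ) := by
    refine (Sheaf.isLocallySurjective_iff_epi _).1 ⟨fun {V} s => ?_⟩
    refine (Scheme.ProEt.topology X).superset_covering ?_ (Presheaf.imageSieve_mem _ φ.hom s)
    rintro W a ⟨t, ht⟩
    exact ⟨t, ht⟩
  exact hU _ _ _ h2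

/-- If the inverse images of affine weakly contractible objects are weakly contractible, the direct
image is exact. -/
theorem pushP_exact {Z X : Scheme.{u}} (f : Z ⟶ X) [ProEtS.PCont f]
    (h : ∀ V : X.ProEt, IsAffine V.left → EtPBC.IsWContractible ↥(Γ(V.left, ⊤)) →
      ProEtS.IsWC ((ProEtS.bcP f).obj V)) :
    PreservesFiniteLimits (ProEtS.pushP f) ∧ PreservesFiniteColimits (ProEtS.pushP f) := by
  haveI : (ProEtS.pushP f).IsRightAdjoint := ⟨_, ⟨ProEtS.pullPushAdjP f⟩⟩
  haveI : PreservesFiniteLimits (ProEtS.pushP f) := inferInstance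
  refine ⟨inferInstance, Groth.Agent.H15Site.HUBasic.preservesFiniteColimits_of_epi _ fun F G φ hφ => ?_⟩
  refine (Sheaf.isLocallySurjective_iff_epi' _ _).1 ⟨fun {U} s => ?_⟩
  obtain ⟨ι, V, g, hcov, hV⟩ := Groth.Agent.S7286.result U
  refine (Scheme.ProEt.topology X).superset_covering ?_ hcov
  rintro W a ⟨_, b, _, ⟨i⟩, rfl⟩
  refine (Presheaf.imageSieve _ s).downward_closed ?_ b
  obtain ⟨t, ht⟩ := surjective_app_of_isWC φ (h (V i) (hV i).1 (hV i).2)
    (((ProEtS.pushP f).obj G).obj.map (g i).op s)
  exact ⟨t, ht⟩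

end Groth.Agent.H1WE
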