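import Groth.Agent.H1WE.Contractible
import Groth.Agent.S0750
import Groth.Agent.S14620
import Groth.Agent.S0677
import Groth.Agent.H9Hens.Local

/-!
# Finite finitely presented algebras over w-contractible rings
-/

set_option autoImplicit false
set_option linter.style.haveILetI false
universe u

namespace Groth.Agent.H1WE

open IsLocalRing Topology Groth.Agent.H1CAlg PrimeSpectrum TensorProduct

section henselian

variable {R S : Type u} [CommRing R] [HenselianLocalRing R] [CommRing S] [Algebra R S] [Module.Finite R S]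

/-- A prime of a finite algebra over a henselian local ring lies below one maximal ideal only. -/
theorem eq_of_le_maximal (R : Type u) [CommRing R] [HenselianLocalRing R] [Algebra R S] [Module.Finite R S] (q n₁ n₂ : Ideal S) [q.IsPrime] [h₁ : n₁.IsMaximal] [h₂ : n₂.IsMaximal]
    (hq₁ : q ≤ n₁) (hq₂ : q ≤ n₂) : n₁ = n₂ := by
  obtain ⟨e, he, hen, hen'⟩ := H9Hens.exists_idem_isolating (R := R) (B := S)
    (fun b hb => H9Hens.exists_idem_lift b hb) ⟨n₁, h₁⟩
  by_contra hne
  have h2 : e ∈ n₂ := hen' ⟨n₂, h₂⟩ fun h => hne (congrArg MaximalSpectrum.asIdeal h).symm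
  rcases WLoc.mem_or_mem_of_isIdempotentElem he q with h | h
  · exact hen (hq₁ h)
  · exact h₂.ne_top ((Ideal.eq_top_iff_one _).2 (by simpa using n₂.add_mem (hq₂ h) h2))

/-- Local rings at maximal ideals of finite algebras over henselian local rings are finite. -/
theorem finite_atPrime (n : Ideal S) [hn : n.IsMaximal] :
    ((algebraMap S (Localization.AtPrime n)).comp (algebraMap R S)).Finite := by
  have h := H9Hens.toPiLocalization_bijective_of_idem_lift (R := R) (B := S)
    fun b hb => H9Hens.exists_idem_lift b hb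
  refine RingHom.Finite.comp (RingHom.Finite.of_surjective _ fun x => ?_)
    (RingHom.finite_algebraMap.2 inferInstance)
  classical
  obtain ⟨s, hs⟩ := h.2 (Pi.single ⟨n, hn⟩ x)
  exact ⟨s, (congrFun hs ⟨n, hn⟩).trans (Pi.single_eq_same _ _)⟩

theorem isLocalHom_atPrime (n : Ideal S) [hn : n.IsMaximal] :
    IsLocalHom ((algebraMap S (Localization.AtPrime n)).comp (algebraMap R S)) := by
  haveI : Algebra.IsIntegral R S := Algebra.IsIntegral.of_finite R S
  have hc : n.comap (algebraMap R S) = maximalIdeal R :=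
    IsLocalRing.eq_maximalIdeal (Ideal.isMaximal_comap_of_isIntegral_of_isMaximal n)
  refine ⟨fun a ha => ?_⟩
  by_contra hna
  have h1 : algebraMap R S a ∈ n := hc.ge ((mem_maximalIdeal a).2 hna)
  exact (IsLocalization.AtPrime.isUnit_to_map_iff (Localization.AtPrime n) n _).1 ha h1

end henselian

variable {A B : Type u} [CommRing A] [CommRing B] [Algebra A B] [Module.Finite A B]

/-- The localisation of a finite algebra at the complement of a maximal ideal of the base. -/
abbrev semiLoc (B : Type u) [CommRing B] [Algebra A B] (m : Ideal A) [m.IsPrime] : Type u :=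
  Localization (Algebra.algebraMapSubmonoid B m.primeCompl)

theorem exists_semiLoc (m : Ideal A) [m.IsMaximal] (n : Ideal B) [hn : n.IsMaximal]
    (hnm : n.comap (algebraMap A B) = m) :
    ∃ N : Ideal (semiLoc B m), N.IsMaximal ∧ N.comap (algebraMap B (semiLoc B m)) = n := by
  let S := Algebra.algebraMapSubmonoid B m.primeCompl
  have hd : Disjoint (S : Set B) (n : Set B) := Set.disjoint_left.2 fun b hb hbn => by
    obtain ⟨a, ha, rfl⟩ := hb
    exact ha (hnm.le hbn)
  have hP := IsLocalization.isPrime_of_isPrime_disjoint S (semiLoc B m) n hn.isPrime hd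
  obtain ⟨M, hM, hle⟩ := Ideal.exists_le_maximal _ hP.ne_top
  refine ⟨M, hM, ((hn.eq_of_le ?_ (fun x hx => hle (Ideal.mem_map_of_mem _ hx)))).symm⟩
  exact Ideal.comap_ne_top _ hM.ne_top

theorem semiLoc_facts (m : Ideal A) [m.IsMaximal]
    (hm : EtCoh.IsStrictlyHenselianLocalRing (Localization.AtPrime m)) :
    (∀ (q n₁ n₂ : Ideal B), q.IsPrime → n₁.IsMaximal → n₂.IsMaximal → n₁.comap (algebraMap A B) = m →
      n₂.comap (algebraMap A B) = m → q ≤ n₁ → q ≤ n₂ → n₁ = n₂) ∧
    ∀ (n : Ideal B) [n.IsMaximal], n.comap (algebraMap A B) = m →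
      EtCoh.IsStrictlyHenselianLocalRing (Localization.AtPrime n) := by
  obtain ⟨_, hsc⟩ := id hm
  let R := Localization.AtPrime m
  let S := Algebra.algebraMapSubmonoid B m.primeCompl
  let BB := semiLoc B m
  letI : Algebra R BB := (IsLocalization.map BB (algebraMap A B) (show m.primeCompl ≤ S.comap (algebraMap A B) from Submonoid.le_comap_map _) : R →+* BB).toAlgebra
  haveI : IsScalarTower A R BB := IsScalarTower.of_algebraMap_eq fun a => by
    show algebraMap A BB a = IsLocalization.map BB (algebraMap A B) _ (algebraMap A R a)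
    rw [IsLocalization.map_eq, ← IsScalarTower.algebraMap_apply]
  haveI : Module.Finite R BB := Module.Finite.of_isLocalization A B (Rₚ := R) (Sₚ := BB) m.primeCompl
  refine ⟨fun q n₁ n₂ hq h₁ h₂ hm₁ hm₂ hq₁ hq₂ => ?_, fun n _ hnm => ?_⟩
  · obtain ⟨N₁, hN₁, rfl⟩ := exists_semiLoc m n₁ (hn := h₁) hm₁
    obtain ⟨N₂, hN₂, rfl⟩ := exists_semiLoc m n₂ (hn := h₂) hm₂
    haveI := IsLocalization.isPrime_of_isPrime_disjoint S BB q hq <| Set.disjoint_left.2 fun b hb hbq => by
      obtain ⟨a, ha, rfl⟩ := hb
      exact ha (hm₁.le (hq₁ hbq))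
    rw [eq_of_le_maximal R (q.map (algebraMap B BB)) N₁ N₂ (Ideal.map_le_iff_le_comap.2 hq₁)
      (Ideal.map_le_iff_le_comap.2 hq₂)]
  · obtain ⟨N, hN, hNn⟩ := exists_semiLoc m n hnm
    haveI := hN
    haveI : IsLocalization.AtPrime (Localization.AtPrime N) n := by
      have h2 : IsLocalization (N.comap (algebraMap B BB)).primeCompl (Localization.AtPrime N) :=
        IsLocalization.isLocalization_atPrime_localization_atPrime S N
      have h3 : (N.comap (algebraMap B BB)).primeCompl = n.primeCompl :=
        SetLike.ext fun x => by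
          show x ∉ N.comap (algebraMap B BB) ↔ x ∉ n
          rw [hNn]
      show IsLocalization n.primeCompl (Localization.AtPrime N)
      exact h3 ▸ h2
    let e := IsLocalization.algEquiv n.primeCompl (Localization.AtPrime N) (Localization.AtPrime n)
    let f : R →+* Localization.AtPrime N := (algebraMap BB _).comp (algebraMap R BB)
    haveI : IsLocalHom f := isLocalHom_atPrime (R := R) N
    haveI : IsLocalHom (e.toRingEquiv.toRingHom.comp f) :=
      ⟨fun a ha => IsLocalHom.map_nonunit (f := f) a
        ((isUnit_map_iff e.toRingEquiv (f a)).1 ha)⟩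
    exact Groth.Agent.S14620.result (e.toRingEquiv.toRingHom.comp f)
      ((RingHom.Finite.of_surjective _ e.toRingEquiv.surjective).comp (finite_atPrime (R := R) N)) hm

/-- The spectrum of a quotient is the closed set it cuts out. -/
noncomputable def homeoQuotient {R : Type u} [CommRing R] (J : Ideal R) :
    PrimeSpectrum (R ⧸ J) ≃ₜ zeroLocus (J : Set R) :=
  ((isClosedEmbedding_comap_of_surjective _ _ Ideal.Quotient.mk_surjective).isEmbedding.toHomeomorph).trans
    (Homeomorph.setCongr (by
      rw [range_comap_of_surjective _ _ Ideal.Quotient.mk_surjective, Ideal.mk_ker]))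

theorem isWContractible_of_finite [Algebra.FinitePresentation A B] (h : EtPBC.IsWContractible A) :
    EtPBC.IsWContractible B := by
  obtain ⟨hw, hED, hsh⟩ := (Groth.Agent.S0677.result A).1 h
  haveI : Algebra.IsIntegral A B := Algebra.IsIntegral.of_finite A B
  let J : Ideal A := vanishingIdeal (ProEtW.closedPoints (PrimeSpectrum A))
  have hS : WLoc.Split A J := WLoc.split_of_isWLocal hw
  have hmax : ∀ n : Ideal B, n.IsMaximal → (n.comap (algebraMap A B)).IsMaximal := fun n hn =>
    haveI := hn; Ideal.isMaximal_comap_of_isIntegral_of_isMaximal n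
  have hcl : ProEtW.closedPoints (PrimeSpectrum B) = zeroLocus (J.map (algebraMap A B) : Set B) := by
    ext x
    rw [mem_zeroLocus, SetLike.coe_subset_coe, Ideal.map_le_iff_le_comap]
    show IsClosed ({x} : Set (PrimeSpectrum B)) ↔ _
    rw [isClosed_singleton_iff_isMaximal]
    refine ⟨fun hx => hS.le_of_isMaximal (hmax _ hx), fun hx => ?_⟩
    exact Ideal.isMaximal_of_isIntegral_of_isMaximal_comap x.asIdeal (hS.isMaximal_of_le hx)
  have hwB : ProEtW.IsWLocal (PrimeSpectrum B) := by
    refine ⟨inferInstance, ?_, fun q => ?_⟩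
    · rw [show {x : PrimeSpectrum B | IsClosed ({x} : Set (PrimeSpectrum B))} = _ from hcl]
      exact isClosed_zeroLocus _
    · obtain ⟨n, hn, hle⟩ := Ideal.exists_le_maximal q.asIdeal q.isPrime.ne_top
      refine ⟨⟨n, hn.isPrime⟩, ⟨(isClosed_singleton_iff_isMaximal _).2 hn,
        (le_iff_specializes q ⟨n, hn.isPrime⟩).1 hle⟩, fun y hy => PrimeSpectrum.ext ?_⟩
      have h1 := (isClosed_singleton_iff_isMaximal y).1 hy.1
      have h2 := (le_iff_specializes q y).2 hy.2
      have he : y.asIdeal.comap (algebraMap A B) = n.comap (algebraMap A B) :=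
        hS.eq_of_le_of_le (q := q.asIdeal.comap (algebraMap A B)) (hmax _ h1) (hmax _ hn)
          (Ideal.comap_mono h2) (Ideal.comap_mono hle)
      haveI := hmax n hn
      exact (semiLoc_facts (n.comap (algebraMap A B)) (hsh _)).1 _ _ _ q.isPrime h1 hn he rfl h2 hle
  refine (Groth.Agent.S0677.result B).2 ⟨hwB, ?_, fun n hn => ?_⟩
  · obtain ⟨φA, -⟩ := hS.exists_homeomorph
    have hSB := WLoc.split_of_isWLocal hwB
    obtain ⟨φB, -⟩ := hSB.exists_homeomorph
    let B₀ := B ⧸ J.map (algebraMap A B)
    haveI : ExtremallyDisconnected (zeroLocus (J : Set A)) := extremallyDisconnected_of_homeo φA.symm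
    haveI : ExtremallyDisconnected (PrimeSpectrum (A ⧸ J)) :=
      extremallyDisconnected_of_homeo (homeoQuotient J).symm
    have hk : ∀ P : Ideal (A ⧸ J), P.IsPrime → P.IsMaximal :=
      Groth.Agent.S0678.isMaximal_quotient _ fun q hq hle => by haveI := hq; exact hS.isMaximal_of_le hle
    haveI : T2Space (PrimeSpectrum (A ⧸ J)) := Groth.Agent.S0678.t2Space_of_isMaximal hk
    haveI : Module.Finite A B₀ := Module.Finite.of_surjective (Ideal.Quotient.mkₐ A _).toLinearMap
      Ideal.Quotient.mk_surjective
    haveI : Module.Finite (A ⧸ J) B₀ := Module.Finite.of_restrictScalars_finite A _ _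
    let e₀ : (A ⧸ J) ⊗[A] B ≃ₐ[A] B₀ := (Algebra.TensorProduct.comm A _ _).trans
      (((Algebra.TensorProduct.quotIdealMapEquivTensorQuot B J).restrictScalars A).symm)
    let e₁ : (A ⧸ J) ⊗[A] B ≃ₐ[A ⧸ J] B₀ := AlgEquiv.ofRingEquiv (f := e₀.toRingEquiv) fun x => by
      obtain ⟨a, rfl⟩ := Ideal.Quotient.mk_surjective x
      show e₀ (algebraMap (A ⧸ J) _ (algebraMap A (A ⧸ J) a)) = algebraMap (A ⧸ J) B₀ (algebraMap A (A ⧸ J) a)
      rw [← IsScalarTower.algebraMap_apply, ← IsScalarTower.algebraMap_apply, AlgEquiv.commutes]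
    haveI : Algebra.FinitePresentation (A ⧸ J) B₀ := Algebra.FinitePresentation.equiv e₁
    have hres : ∀ p : PrimeSpectrum (A ⧸ J), IsSepClosed p.asIdeal.ResidueField := fun p => by
      let m := p.asIdeal.comap (Ideal.Quotient.mk J)
      haveI := hk p.asIdeal p.isPrime
      haveI : m.IsMaximal := Ideal.comap_isMaximal_of_surjective _ Ideal.Quotient.mk_surjective
      obtain ⟨_, hsc⟩ := hsh m
      let φ : m.ResidueField →+* p.asIdeal.ResidueField :=
        Ideal.ResidueField.map m p.asIdeal (Ideal.Quotient.mk J) rfl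
      letI := φ.toAlgebra
      haveI : Algebra.IsAlgebraic m.ResidueField p.asIdeal.ResidueField := by
        haveI : Module.Finite m.ResidueField p.asIdeal.ResidueField :=
          RingHom.Finite.of_surjective φ fun z => by
            obtain ⟨w, rfl⟩ := (Ideal.bijective_algebraMap_quotient_residueField p.asIdeal).2 z
            obtain ⟨v, rfl⟩ := Ideal.Quotient.mk_surjective w
            obtain ⟨a, rfl⟩ := Ideal.Quotient.mk_surjective v
            exact ⟨algebraMap A _ a, Ideal.ResidueField.map_algebraMap m p.asIdeal _ _ a⟩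
        exact Algebra.IsAlgebraic.of_finite _ _
      exact H9Hens.isSepClosed_of_isAlgebraic m.ResidueField
    haveI : ExtremallyDisconnected (PrimeSpectrum B₀) := Groth.Agent.S0750.result (A ⧸ J) B₀ hres
    exact extremallyDisconnected_of_homeo (((homeoQuotient (J.map (algebraMap A B))).trans
      (Homeomorph.setCongr (hcl.symm.trans hSB.closedPoints_eq))).trans φB)
  · haveI := hmax n hn
    exact (semiLoc_facts (n.comap (algebraMap A B)) (hsh _)).2 n rfl

end Groth.Agent.H1WE
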