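import Groth.Agent.S0707
import Groth.Agent.S14620
import Groth.Agent.S0677
import Groth.Agent.H1WE.FiniteFP

/-!
# Quotients of w-contractible rings by ideals with constructible zero set
-/

set_option autoImplicit false
set_option linter.style.haveILetI false
universe u

namespace Groth.Agent.H1WE

open Groth.Agent PrimeSpectrum

theorem isWContractible_quotient {A : Type u} [CommRing A] (h : EtPBC.IsWContractible A) (I : Ideal A)
    (E : Finset A) (hE : zeroLocus (E : Set A) = zeroLocus (I : Set A)) : EtPBC.IsWContractible (A ⧸ I) := by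
  classical
  obtain ⟨hw, hED, hsh⟩ := (Groth.Agent.S0677.result A).1 h
  let J : Ideal A := vanishingIdeal (ProEtW.closedPoints (PrimeSpectrum A))
  have hS : H1CAlg.WLoc.Split A J := H1CAlg.WLoc.split_of_isWLocal hw
  let π := Ideal.Quotient.mk I
  have hπ : Function.Surjective π := Ideal.Quotient.mk_surjective
  have hcomap : ∀ n : Ideal (A ⧸ I), n.IsMaximal → (n.comap π).IsMaximal := fun n hn =>
    haveI := hn; Ideal.comap_isMaximal_of_surjective π hπ
  have hSQ : H1CAlg.WLoc.Split (A ⧸ I) (J.map π) := by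
    refine ⟨le_sInf fun n hn => Ideal.map_le_iff_le_comap.2 (hS.le_of_isMaximal (hcomap n hn.2)), fun x => ?_⟩
    obtain ⟨a, rfl⟩ := hπ x
    obtain ⟨e, y, he, h1, h2⟩ := hS.split a
    refine ⟨π e, π y, he.map π, ?_, ?_⟩
    · rw [← map_mul, ← map_sub]; exact Ideal.mem_map_of_mem π h1
    · rw [← map_one π, ← map_sub, ← map_mul]
      exact Ideal.map_radical_le π (Ideal.mem_map_of_mem π h2)
  refine (Groth.Agent.S0677.result _).2 ⟨hSQ.isWLocal, ?_, fun n hn => ?_⟩
  · obtain ⟨φA, -⟩ := hS.exists_homeomorph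
    obtain ⟨φQ, -⟩ := hSQ.exists_homeomorph
    haveI := hS.t2Space_connectedComponents
    haveI : T2Space (zeroLocus (J : Set A)) := φA.isEmbedding.t2Space
    haveI : ExtremallyDisconnected (zeroLocus (J : Set A)) := extremallyDisconnected_of_homeo φA.symm
    let W : Set (zeroLocus (J : Set A)) := {z | z.1 ∈ zeroLocus (E : Set A)}
    have hW : IsOpen W := by
      have hrw : W = ⋂ e ∈ (E : Set A), {z : zeroLocus (J : Set A) | e ∈ z.1.asIdeal} := by
        ext z; simp [W, mem_zeroLocus, Set.subset_def]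
      rw [hrw]
      refine Set.Finite.isOpen_biInter E.finite_toSet fun e _ => ?_
      obtain ⟨ε, y, hε, hxy, hx1⟩ := hS.split e
      have h2 : {z : zeroLocus (J : Set A) | e ∈ z.1.asIdeal} =
          Subtype.val ⁻¹' (basicOpen ε : Set (PrimeSpectrum A))ᶜ := by
        ext z
        show e ∈ z.1.asIdeal ↔ ¬ ε ∉ z.1.asIdeal
        rw [not_not]
        constructor
        · intro he
          have := z.1.asIdeal.sub_mem (z.1.asIdeal.mul_mem_right y he) (z.2 hxy)
          rwa [sub_sub_cancel] at this
        · intro he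
          refine (z.1.isPrime.mem_or_mem (z.1.isPrime.radical_le_iff.2 z.2 hx1)).resolve_right fun h3 => ?_
          exact H1CAlg.WLoc.notMem_of_one_sub_mem _ h3 he
      rw [h2]
      exact (H1CAlg.WLoc.isClopen_basicOpen_of_isIdempotentElem hε).compl.isOpen.preimage continuous_subtype_val
    haveI : ExtremallyDisconnected W := Groth.Agent.S0707.extremallyDisconnected_of_isOpen W hW
    let f : zeroLocus ((J.map π : Ideal (A ⧸ I)) : Set (A ⧸ I)) → W := fun x =>
      ⟨⟨comap π x.1, (Ideal.map_le_iff_le_comap.1 x.2 : J ≤ x.1.asIdeal.comap π)⟩, by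
        show comap π x.1 ∈ zeroLocus (E : Set A)
        rw [hE]
        intro a ha
        show π a ∈ x.1.asIdeal
        rw [Ideal.Quotient.eq_zero_iff_mem.2 ha]
        exact zero_mem _⟩
    have hf : Continuous f :=
      (((continuous_comap π).comp continuous_subtype_val).subtype_mk _).subtype_mk _
    have hfb : Function.Bijective f := by
      refine ⟨fun x y hxy => Subtype.ext ((isClosedEmbedding_comap_of_surjective _ _ hπ).injective
        (congrArg (fun w => w.1.1) hxy)), fun w => ?_⟩
      obtain ⟨q, hq⟩ : w.1.1 ∈ Set.range (comap π) := by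
        rw [range_comap_of_surjective _ _ hπ, Ideal.mk_ker]
        exact hE ▸ w.2
      refine ⟨⟨q, (Ideal.map_le_iff_le_comap.2 ?_ : J.map π ≤ q.asIdeal)⟩, Subtype.ext (Subtype.ext hq)⟩
      have h1 : q.asIdeal.comap π = w.1.1.asIdeal := congrArg PrimeSpectrum.asIdeal hq
      rw [h1]
      exact w.1.2
    haveI : CompactSpace (zeroLocus ((J.map π : Ideal (A ⧸ I)) : Set (A ⧸ I))) :=
      isCompact_iff_compactSpace.1 (isClosed_zeroLocus _).isCompact
    exact extremallyDisconnected_of_homeo
      ((Continuous.homeoOfEquivCompactToT2 (f := Equiv.ofBijective f hfb) hf).symm.trans φQ)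
  · haveI := hcomap n hn
    let g := Localization.localRingHom (n.comap π) n π rfl
    haveI : IsLocalHom g := Localization.isLocalHom_localRingHom _ _ _ _
    refine Groth.Agent.S14620.result g (RingHom.Finite.of_surjective g fun z => ?_) (hsh _)
    obtain ⟨b, ⟨s, hs⟩, rfl⟩ := IsLocalization.exists_mk'_eq n.primeCompl z
    obtain ⟨a, rfl⟩ := hπ b
    obtain ⟨t, rfl⟩ := hπ s
    exact ⟨IsLocalization.mk' _ a (⟨t, hs⟩ : (n.comap π).primeCompl), Localization.localRingHom_mk' _ _ _ _ _ _⟩

end Groth.Agent.H1WE
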