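import Groth.Agent.S7286
import Groth.Agent.H26ProEt.WC

/-!
# Coproducts and covers by weakly contractible objects of the pro-etale site
-/

set_option autoImplicit false
set_option linter.style.haveILetI false

universe u

open CategoryTheory CategoryTheory.Limits AlgebraicGeometry Opposite

namespace Groth.Agent.H1WE

variable {X : Scheme.{u}}

/-- A coproduct of weakly contractible objects of the pro-etale site is weakly contractible, and its
components cover it. -/
theorem exists_coprod {ι : Type u} (V : ι → X.ProEt) :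
    ∃ (P : X.ProEt) (j : ∀ k, V k ⟶ P),
      Sieve.ofArrows V j ∈ Scheme.ProEt.topology X P ∧
      ((∀ k, ProEtS.IsWC (V k)) → ProEtS.IsWC P) ∧
      (Finite ι → (∀ k, IsAffine (V k).left) → IsAffine P.left) ∧
      ∀ {Y : X.ProEt} (g : ∀ k, V k ⟶ Y), ∃ m : P ⟶ Y, ∀ k, j k ≫ m = g k := by
  classical
  let S : ι → Scheme.{u} := fun k => (V k).left
  let f : (∐ S) ⟶ X := Sigma.desc fun k => (V k).hom
  haveI : WeaklyEtale f := (IsZariskiLocalAtSource.iff_of_openCover (P := @WeaklyEtale)
    (sigmaOpenCover S)).2 fun k => by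
      show WeaklyEtale (Sigma.ι S k ≫ f)
      rw [Sigma.ι_desc]
      exact (V k).prop
  let j : ∀ k, V k ⟶ Scheme.ProEt.mk f := fun k =>
    MorphismProperty.Over.homMk (Sigma.ι S k) (Sigma.ι_desc (f := S) (fun k => (V k).hom) k) trivial
  haveI : ∀ k, IsOpenImmersion (j k).left := fun k => inferInstanceAs (IsOpenImmersion (Sigma.ι S k))
  have hcov : Sieve.ofArrows V j ∈ Scheme.ProEt.topology X (Scheme.ProEt.mk f) := by
    refine Precoverage.generate_mem_toGrothendieck ?_
    simp only [Scheme.ProEt.precoverage, Precoverage.mem_comap_iff, Presieve.map_ofArrows]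
    apply Scheme.zariskiPrecoverage_le_propQCPrecoverage
    let E : PreZeroHypercover (∐ S) := ⟨ι, S, fun k => Sigma.ι S k⟩
    show E.presieve₀ ∈ Scheme.precoverage @IsOpenImmersion (∐ S)
    rw [Scheme.presieve₀_mem_precoverage_iff]
    exact ⟨fun x => (sigmaOpenCover S).exists_eq x, fun k => (inferInstance : IsOpenImmersion (Sigma.ι S k))⟩
  refine ⟨Scheme.ProEt.mk f, j, hcov, fun hV F G φ hφ s => ?_, fun hfin hV => ?_, fun {Y} g => ?_⟩
  · have hF := (isSheaf_iff_isSheaf_of_type _ _).1 F.2
    have hG := (isSheaf_iff_isSheaf_of_type _ _).1 G.2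
    choose t ht using fun k => hV k F G φ hφ (G.obj.map (j k).op s)
    obtain ⟨r, hr, -⟩ := (Presieve.isSheafFor_arrows_iff _ _).1
      ((Presieve.isSheafFor_iff_generate _).2 (hF _ hcov)) t fun k l Z a b e => by
      by_cases hkl : k = l
      · subst hkl
        rw [show a = b from MorphismProperty.Over.Hom.ext
          ((cancel_mono (j k).left).1 (congrArg (fun q => q.left) e))]
      · haveI : IsEmpty Z.left := ⟨fun z => by
          have e1 : Sigma.ι S k (a.left z) = Sigma.ι S l (b.left z) :=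
            congrArg (fun q : Z ⟶ Scheme.ProEt.mk f => q.left z) e
          exact Set.disjoint_left.1 (TopologicalSpace.Opens.coe_disjoint.2
            (disjoint_opensRange_sigmaι S k l hkl)) ⟨a.left z, rfl⟩ ⟨b.left z, e1.symm⟩⟩
        exact (H26ProEt.subsingleton_sections_of_isEmpty hF Z).elim _ _
    refine ⟨r, ((Presieve.isSheafFor_iff_generate _).2 (hG _ hcov)).isSeparatedFor.ext fun Z q hq => ?_⟩
    obtain ⟨k⟩ := hq
    have h1 := (NatTrans.naturality_apply φ.hom (j k).op r).symm
    rw [hr k, ht k] at h1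
    exact h1
  · haveI := hfin
    haveI : ∀ k, IsAffine (S k) := hV
    exact inferInstanceAs (IsAffine (∐ S))
  · refine ⟨MorphismProperty.Over.homMk (Sigma.desc (f := S) fun k => (g k).left)
      (Sigma.hom_ext _ _ fun k => ?_) trivial, fun k => MorphismProperty.Over.Hom.ext (Sigma.ι_desc _ _)⟩
    exact ((Category.assoc _ _ _).symm.trans ((congrArg (fun q : (V k).left ⟶ Y.left => q ≫ Y.hom)
      (Sigma.ι_desc (f := S) (fun k => (g k).left) k)).trans (MorphismProperty.Over.w (g k)))).trans
      (Sigma.ι_desc (f := S) (fun k => (V k).hom) k).symm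

/-- A single cover by a coproduct of weakly contractible affines, given an affine open cover. -/
theorem exists_wc_cover (U : X.ProEt) {ι : Type u} (O : ι → U.left.Opens)
    (hO : ∀ i, IsAffineOpen (O i)) (hcov : ∀ x, ∃ i, x ∈ O i) :
    ∃ (P : X.ProEt) (g : P ⟶ U), Sieve.generate (Presieve.singleton g) ∈ Scheme.ProEt.topology X U ∧
      ProEtS.IsWC P ∧ (Finite ι → IsAffine P.left) := by
  let W : ι → X.ProEt := fun i => Scheme.ProEt.mk ((O i).ι ≫ U.hom)
  let w : ∀ i, W i ⟶ U := fun i => MorphismProperty.Over.homMk (O i).ι (by rfl) trivial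
  have hW : Sieve.ofArrows W w ∈ Scheme.ProEt.topology X U := by
    refine Precoverage.generate_mem_toGrothendieck ?_
    simp only [Scheme.ProEt.precoverage, Precoverage.mem_comap_iff, Presieve.map_ofArrows]
    apply Scheme.zariskiPrecoverage_le_propQCPrecoverage
    let E : PreZeroHypercover U.left := ⟨ι, fun i => (O i : Scheme.{u}), fun i => (O i).ι⟩
    show E.presieve₀ ∈ Scheme.precoverage @IsOpenImmersion U.left
    rw [Scheme.presieve₀_mem_precoverage_iff]
    exact ⟨fun x => (hcov x).imp fun i hi => ⟨⟨x, hi⟩, rfl⟩,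
      fun i => (inferInstance : IsOpenImmersion (O i).ι)⟩
  haveI : ∀ i, IsAffine (W i).left := hO
  choose V h hVaff hwc hs using fun i => Groth.Agent.S7286.exists_wc_over (W i)
  obtain ⟨P, j, -, hPwc, hPaff, hdesc⟩ := exists_coprod V
  obtain ⟨g, hg⟩ := hdesc fun i => h i ≫ w i
  refine ⟨P, g, ?_, hPwc fun i => ?_, fun hfin => hPaff hfin hVaff⟩
  · refine (Scheme.ProEt.topology X).transitive hW _ ?_
    rintro Z f ⟨_, a, _, ⟨i⟩, rfl⟩
    rw [Sieve.pullback_comp]
    refine (Scheme.ProEt.topology X).pullback_stable a ?_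
    haveI : ∀ _ : PUnit.{1}, IsAffine (V i).left := fun _ => hVaff i
    refine (Scheme.ProEt.topology X).superset_covering ?_
      (H26ProEt.mem_topology_of_finite_affine (ι := PUnit.{1}) (fun _ => V i) (fun _ => h i)
        fun x => ⟨⟨⟩, hs i x⟩)
    rintro Z' f' ⟨_, b, _, ⟨-⟩, rfl⟩
    exact ⟨_, b ≫ j i, g, ⟨⟩, by rw [Category.assoc, hg, ← Category.assoc]⟩
  · haveI := hVaff i
    exact H26ProEt.isWC_of_refines (H26ProEt.refines_of_splits (H26ProEt.splits_iff.1 (hwc i)))

end Groth.Agent.H1WE
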