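import Groth.Agent.H1CAlg.ZarLocal

/-!
# Identifying local rings with w-local target is ind-Zariski
-/

universe u
open CategoryTheory CategoryTheory.Limits

namespace Groth.Agent.H1WE

open Groth.Agent

/-- An algebra with w-local spectrum identifying local rings is ind-Zariski, over any base. -/
theorem isIndZariski_of_identifiesLocalRings (A B : Type u) [CommRing A] [CommRing B]
    [Algebra A B] (h1 : EtPBC.IdentifiesLocalRings A B) (h3 : ProEtW.IsWLocal (PrimeSpectrum B)) :
    EtPBC.IsIndZariski A B := by
  classical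
  let J : Ideal B := PrimeSpectrum.vanishingIdeal (ProEtW.closedPoints (PrimeSpectrum B))
  have hB : H1CAlg.WLoc.Split B J := H1CAlg.WLoc.split_of_isWLocal h3
  have hmaxk : ∀ p : Ideal (B ⧸ J), p.IsPrime → p.IsMaximal := fun p hp => by
    haveI := hp
    haveI : (p.comap (Ideal.Quotient.mk J)).IsPrime := Ideal.comap_isPrime _ _
    haveI : (p.comap (Ideal.Quotient.mk J)).IsMaximal := hB.isMaximal_of_le fun a ha => by
      rw [Ideal.mem_comap, Ideal.Quotient.eq_zero_iff_mem.2 ha]
      exact p.zero_mem
    rw [← Ideal.map_comap_of_surjective _ Ideal.Quotient.mk_surjective p]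
    refine Ideal.IsMaximal.map_of_surjective_of_ker_le Ideal.Quotient.mk_surjective ?_
    intro a ha
    rw [Ideal.mem_comap, RingHom.mem_ker.1 ha]
    exact p.zero_mem
  obtain ⟨H, _, _, π, hH⟩ := H1CAlg.Zar.exists_isZarColim (A := A) (k := B ⧸ J)
  have hSH := hH.split fun x => H1CAlg.Zar.exists_unit_idem_of_isMaximal hmaxk (π x)
  obtain ⟨g, hg, -⟩ := hH.existsUnique_algHom hB (AlgHom.id A (B ⧸ J))
  have hgπ : ∀ x, Ideal.Quotient.mk J (g x) = π x := fun x => DFunLike.congr_fun hg x
  -- the point is surjective
  have hsurj : Function.Surjective π := by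
    intro b'
    obtain ⟨b, rfl⟩ := Ideal.Quotient.mk_surjective b'
    let R := π.range
    let 𝓔 : Set (B ⧸ J) := {e | IsIdempotentElem e ∧ e * Ideal.Quotient.mk J b ∈ R}
    have hidem : ∀ e : B ⧸ J, IsIdempotentElem e → e ∈ R := fun e he => by
      obtain ⟨ε, -, hε⟩ := hH.exists_idem_lift he
      exact ⟨ε, hε⟩
    have hsup : ∀ e ∈ 𝓔, ∀ f ∈ 𝓔, e + f - e * f ∈ 𝓔 := fun e he f hf => by
      refine ⟨?_, ?_⟩
      · show (e + f - e * f) * (e + f - e * f) = e + f - e * f
        linear_combination (1 - f) * (1 - f) * he.1.eq + (1 - e) * hf.1.eq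
      · rw [show (e + f - e * f) * Ideal.Quotient.mk J b =
          e * Ideal.Quotient.mk J b + (1 - e) * (f * Ideal.Quotient.mk J b) by ring]
        exact R.add_mem he.2 (R.mul_mem (R.sub_mem R.one_mem (hidem e he.1)) hf.2)
    have hspan : Ideal.span 𝓔 = ⊤ := by
      by_contra hne
      obtain ⟨m, hm, hle⟩ := Ideal.exists_le_maximal _ hne
      haveI := hm.isPrime
      let n : Ideal B := m.comap (Ideal.Quotient.mk J)
      haveI : n.IsPrime := Ideal.comap_isPrime _ _
      obtain ⟨z, hz⟩ := (h1 ⟨n, inferInstance⟩).2 (algebraMap B _ b)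
      obtain ⟨a, ⟨s, hs⟩, rfl⟩ := IsLocalization.exists_mk'_eq (n.comap (algebraMap A B)).primeCompl z
      rw [Localization.localRingHom_mk', IsLocalization.mk'_eq_iff_eq_mul, ← map_mul] at hz
      obtain ⟨⟨t, ht⟩, hts⟩ := IsLocalization.exists_of_eq (M := n.primeCompl) hz
      have hts' := congrArg (Ideal.Quotient.mk J) hts
      simp only [map_mul] at hts'
      let x := Ideal.Quotient.mk J t * Ideal.Quotient.mk J (algebraMap A B s)
      have hxm : x ∉ m := fun hx => (hm.isPrime.mem_or_mem hx).elim (fun h => ht h) (fun h => hs h)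
      obtain ⟨e, y, he, hxy, hnil⟩ := H1CAlg.Zar.exists_unit_idem_of_isMaximal hmaxk x
      have hem : e ∉ m := fun hem => by
        obtain ⟨N, hN⟩ := hnil
        refine ((hm.isPrime.mem_or_mem (hm.isPrime.mem_of_pow_mem N (hN ▸ m.zero_mem))).elim hxm ?_)
        exact fun h => H1CAlg.WLoc.notMem_of_one_sub_mem m h hem
      -- an inverse of `s` on the support of `e` inside the range
      have hsR : Ideal.Quotient.mk J (algebraMap A B s) ∈ R := ⟨algebraMap A H s, π.commutes s⟩
      have haR : Ideal.Quotient.mk J (algebraMap A B a) ∈ R := ⟨algebraMap A H a, π.commutes a⟩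
      obtain ⟨ε, -, hε⟩ := hH.exists_idem_lift he
      have hu : IsUnit (algebraMap A H s * ε + (1 - ε)) := hH.isUnit_of_isUnit (by
        rw [map_add, map_mul, map_sub, map_one, π.commutes, hε]
        refine IsUnit.of_mul_eq_one (Ideal.Quotient.mk J t * y * e + (1 - e)) ?_
        show (Ideal.Quotient.mk J (algebraMap A B s) * e + (1 - e)) * _ = 1
        linear_combination e * e * hxy +
          (e + 2 - Ideal.Quotient.mk J t * y - Ideal.Quotient.mk J (algebraMap A B s)) * he.eq)
      obtain ⟨v, hv⟩ := hu.exists_right_inv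
      have hv' := congrArg π hv
      rw [map_mul, map_add, map_mul, map_sub, map_one, π.commutes, hε] at hv'
      change (Ideal.Quotient.mk J (algebraMap A B s) * e + (1 - e)) * π v = 1 at hv'
      have hsv : Ideal.Quotient.mk J (algebraMap A B s) * π v * e = e := by
        linear_combination e * hv' + (π v - Ideal.Quotient.mk J (algebraMap A B s) * π v) * he.eq
      refine hem (hle (Ideal.subset_span ⟨he, ?_⟩))
      have key : e * Ideal.Quotient.mk J b = e * Ideal.Quotient.mk J (algebraMap A B a) * π v := by
        linear_combination (-Ideal.Quotient.mk J b) * hsv -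
          (Ideal.Quotient.mk J (algebraMap A B s) * Ideal.Quotient.mk J b -
            Ideal.Quotient.mk J (algebraMap A B a)) * π v * hxy -
          (Ideal.Quotient.mk J (algebraMap A B s) * y * π v) * hts'
      rw [key]
      exact R.mul_mem (R.mul_mem (hidem e he) haR) ⟨v, rfl⟩
    obtain ⟨T, hT, hT1⟩ := Submodule.mem_span_finite_of_mem_span
      (hspan ▸ Submodule.mem_top : (1 : B ⧸ J) ∈ Ideal.span 𝓔)
    have hjoin : ∀ T' : Finset (B ⧸ J), (∀ e ∈ T', e ∈ 𝓔) →
        ∃ e₀ ∈ 𝓔, ∀ e ∈ T', e * e₀ = e := by
      intro T'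
      induction T' using Finset.induction with
      | empty => exact fun _ => ⟨0, ⟨IsIdempotentElem.zero, by rw [zero_mul]; exact R.zero_mem⟩, by simp⟩
      | insert e T' _ ih =>
        intro hmem
        obtain ⟨e₀, he₀, hfix⟩ := ih fun f hf => hmem f (Finset.mem_insert_of_mem hf)
        refine ⟨e + e₀ - e * e₀, hsup e (hmem e (Finset.mem_insert_self _ _)) e₀ he₀, fun f hf => ?_⟩
        rcases Finset.mem_insert.1 hf with rfl | hf
        · linear_combination (1 - e₀) * (hmem f (Finset.mem_insert_self _ _)).1.eq
        · linear_combination (1 - e) * hfix f hf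
    obtain ⟨e₀, he₀, hfix⟩ := hjoin T fun e he => hT he
    have he₁ : e₀ = 1 := by
      have : ∀ z ∈ Submodule.span (B ⧸ J) (T : Set (B ⧸ J)), z * e₀ = z := fun z hz => by
        induction hz using Submodule.span_induction with
        | mem z hz => exact hfix z hz
        | zero => exact zero_mul _
        | add x y _ _ hx hy => rw [add_mul, hx, hy]
        | smul c x _ hx => rw [smul_eq_mul, mul_assoc, hx]
      simpa using this 1 hT1
    have := he₀.2
    rwa [he₁, one_mul] at this
  -- the comparison map identifies local rings and is bijective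
  letI : Algebra H B := g.toRingHom.toAlgebra
  haveI : IsScalarTower A H B := IsScalarTower.of_algebraMap_eq fun a => (g.commutes a).symm
  have hid : EtPBC.IdentifiesLocalRings H B := fun q => by
    haveI := q.isPrime
    let q' : PrimeSpectrum H := ⟨q.asIdeal.comap (algebraMap H B), Ideal.comap_isPrime _ _⟩
    let p := q.asIdeal.comap (algebraMap A B)
    have hp : p = q'.asIdeal.comap (algebraMap A H) := by
      show q.asIdeal.comap _ = (q.asIdeal.comap (algebraMap H B)).comap _
      rw [Ideal.comap_comap, ← IsScalarTower.algebraMap_eq]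
    have hAH := H1CAlg.Zar.identifiesLocalRings_of_isIndZariski hH.isIndZariski q'
    let F := Localization.localRingHom q'.asIdeal q.asIdeal (algebraMap H B) rfl
    let G := Localization.localRingHom p q'.asIdeal (algebraMap A H) hp
    have hG : Function.Bijective G := by
      have key : ∀ (p' : Ideal A) [p'.IsPrime] (h' : p' = q'.asIdeal.comap (algebraMap A H)),
          Function.Bijective (Localization.localRingHom p' q'.asIdeal (algebraMap A H) h') := by
        intro p' _ h'
        subst h'
        exact hAH
      exact key p hp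
    have hAB : Function.Bijective (F.comp G) := by
      have hc : F.comp G = Localization.localRingHom p q.asIdeal (algebraMap A B) rfl :=
        (Localization.localRingHom_unique p q.asIdeal (algebraMap A B) rfl fun a => by
          show F (G (algebraMap A _ a)) = _
          rw [Localization.localRingHom_to_map, Localization.localRingHom_to_map,
            ← IsScalarTower.algebraMap_apply A H B]).symm
      rw [hc]
      exact h1 q
    exact (Function.Bijective.of_comp_iff (⇑F) hG).1 hAB
  have hbij : Function.Bijective (algebraMap H B) := by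
    refine H1CAlg.Zar.bijective_of_identifiesLocalRings hid fun m hm => ?_
    haveI := hm.isPrime
    have hkm : RingHom.ker π ≤ m := hSH.le_of_isMaximal hm
    have hcm : (m.map π.toRingHom).comap π.toRingHom = m := by
      refine (Ideal.comap_map_of_surjective π.toRingHom hsurj m).trans ?_
      rw [sup_eq_left]
      exact hkm
    haveI : (m.map π.toRingHom).IsPrime := Ideal.map_isPrime_of_surjective hsurj hkm
    refine ⟨(m.map π.toRingHom).comap (Ideal.Quotient.mk J), Ideal.comap_isPrime _ _, ?_, ?_⟩
    · ext x
      show Ideal.Quotient.mk J (g x) ∈ m.map π.toRingHom ↔ x ∈ m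
      rw [hgπ, ← Ideal.ext_iff.1 hcm x]
      rfl
    · intro q hq hqm
      haveI := hq
      obtain ⟨n', hn', hle⟩ := Ideal.exists_le_maximal q hq.ne_top
      haveI := hn'.isPrime
      have hJn := hB.le_of_isMaximal hn'
      have hkn : RingHom.ker π ≤ n'.comap (algebraMap H B) := fun x hx => hJn (by
        rw [← Ideal.Quotient.eq_zero_iff_mem]
        exact (hgπ x).trans hx)
      have h6 : n'.comap (algebraMap H B) = m :=
        hSH.eq_of_le_of_le (q := q.comap (algebraMap H B)) (hSH.isMaximal_of_le hkn) hm
          (Ideal.comap_mono hle) hqm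
      refine hle.trans fun b hb => ?_
      obtain ⟨x, hx⟩ := hsurj (Ideal.Quotient.mk J b)
      show Ideal.Quotient.mk J b ∈ m.map π.toRingHom
      rw [← hx]
      refine Ideal.mem_map_of_mem π.toRingHom ?_
      rw [← h6]
      have : g x - b ∈ J := by rw [← Ideal.Quotient.eq]; exact (hgπ x).trans hx
      show g x ∈ n'
      simpa using n'.add_mem (hJn this) hb
  obtain ⟨Jc, i₁, i₂, D, c, hc, hD, ⟨e⟩⟩ := hH.isIndZariski
  exact ⟨Jc, i₁, i₂, D, c, hc, hD,
    ⟨e ≪≫ (AlgEquiv.ofBijective g hbij).toUnder (R := CommRingCat.of A)⟩⟩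

end Groth.Agent.H1WE
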