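import Groth.Agent.H1WE.Contractible
import Groth.Agent.H1WE.WLocalTarget
import Groth.Agent.H1CAlg.EtCover
import Groth.Agent.H1CAlg.ZarColimSplit
import Groth.Agent.H1CAlg.ZarCover
import Groth.Agent.S0675
import Groth.Agent.H9WE.Field
import Groth.Agent.S0736
import Groth.Agent.S0737

/-!
# Ind-etale covers of weakly etale algebras
-/

set_option autoImplicit false
set_option linter.style.haveILetI false
universe u

namespace Groth.Agent.H1WE

open Groth.Agent PrimeSpectrum TensorProduct

/-- A w-contractible ind-etale cover whose closed points surject, with algebraically closed points. -/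
theorem exists_cover (A : Type u) [CommRing A] :
    ∃ (C : Type u) (_ : CommRing C) (_ : Algebra A C), EtPBC.IsIndEtale A C ∧
      ProEtW.IsWLocal (PrimeSpectrum C) ∧
      (∀ (m : Ideal C) [m.IsMaximal], EtCoh.IsStrictlyHenselianLocalRing (Localization.AtPrime m)) ∧
      ∀ p : PrimeSpectrum A, ∃ f : C →ₐ[A] AlgebraicClosure p.asIdeal.ResidueField,
        (RingHom.ker f).IsMaximal := by
  classical
  let K : PrimeSpectrum A → Type u := fun p => AlgebraicClosure p.asIdeal.ResidueField
  obtain ⟨H, _, _, π, hH⟩ := H9Hens.exists_isPtColim (A := A) (k := (p : PrimeSpectrum A) → K p)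
  have hS := H1CAlg.Zar.split_of_isPtColim hH fun x => H1CAlg.Zar.exists_unit_idem_pi K (π x)
  have hret := H1CAlg.EtCover.hasEtaleRetractions_of_geomPoints hH
  refine ⟨H, inferInstance, inferInstance, hH.isIndEtale, hS.isWLocal,
    fun m _ => Groth.Agent.S0675.result H hret m, fun p => ⟨(Pi.evalAlgHom A K p).comp π, ?_⟩⟩
  haveI : (RingHom.ker ((Pi.evalAlgHom A K p).comp π)).IsPrime := RingHom.ker_isPrime _
  refine hS.isMaximal_of_le fun x hx => ?_
  show π x p = 0
  rw [show π x = 0 from hx]
  rfl

variable {A B : Type u} [CommRing A] [CommRing B] [Algebra A B]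

/-- Residue field extensions of weakly etale algebras are algebraic. -/
theorem isAlgebraic_residueField [Algebra.WeaklyEtale A B] (p : Ideal A) [p.IsPrime] (q : Ideal B)
    [q.IsPrime] (hq : p = q.comap (algebraMap A B)) (y : q.ResidueField) :
    letI := (Ideal.ResidueField.map p q (algebraMap A B) hq).toAlgebra
    IsAlgebraic p.ResidueField y := by
  letI := (Ideal.ResidueField.map p q (algebraMap A B) hq).toAlgebra
  haveI : IsScalarTower A p.ResidueField q.ResidueField := IsScalarTower.of_algebraMap_eq fun a => by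
    show _ = Ideal.ResidueField.map p q (algebraMap A B) hq (algebraMap A p.ResidueField a)
    rw [Ideal.ResidueField.map_algebraMap, ← IsScalarTower.algebraMap_apply A B q.ResidueField]
  let f : p.ResidueField ⊗[A] B →ₐ[p.ResidueField] q.ResidueField :=
    Algebra.TensorProduct.lift (Algebra.ofId p.ResidueField q.ResidueField)
      (IsScalarTower.toAlgHom A B q.ResidueField) fun _ _ => Commute.all _ _
  have key : ∀ b : B, IsAlgebraic p.ResidueField (algebraMap B q.ResidueField b) := fun b => by
    obtain ⟨P, hP, hPb⟩ := (H9WE.isSep_of_weaklyEtale p.ResidueField ((1 : p.ResidueField) ⊗ₜ[A] b)).map f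
    refine ⟨P, hP.ne_zero, ?_⟩
    rwa [show f ((1 : p.ResidueField) ⊗ₜ[A] b) = algebraMap B q.ResidueField b by simp [f]] at hPb
  obtain ⟨a, s, hs, rfl⟩ := IsFractionRing.div_surjective (B ⧸ q) y
  obtain ⟨a, rfl⟩ := Ideal.Quotient.mk_surjective a
  obtain ⟨s, rfl⟩ := Ideal.Quotient.mk_surjective s
  rw [div_eq_mul_inv]
  exact IsAlgebraic.mul (key a) (IsAlgebraic.inv (key s))

theorem algebraicResidueExtensions [Algebra.WeaklyEtale A B] : ProEtW.AlgebraicResidueExtensions A B := by
  intro q _
  refine ⟨fun y => ?_⟩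
  let p := q.comap (algebraMap A B)
  letI := (Ideal.ResidueField.map p q (algebraMap A B) rfl).toAlgebra
  letI : Algebra (A ⧸ p) q.ResidueField :=
    ((algebraMap p.ResidueField q.ResidueField).comp (algebraMap (A ⧸ p) p.ResidueField)).toAlgebra
  haveI : IsScalarTower (A ⧸ p) p.ResidueField q.ResidueField := IsScalarTower.of_algebraMap_eq fun _ => rfl
  haveI : IsScalarTower (A ⧸ p) (B ⧸ q) q.ResidueField := IsScalarTower.of_algebraMap_eq fun x => by
    obtain ⟨a, rfl⟩ := Ideal.Quotient.mk_surjective x
    exact Ideal.ResidueField.map_algebraMap p q (algebraMap A B) rfl a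
  have h1 := isAlgebraic_residueField p q rfl (algebraMap (B ⧸ q) q.ResidueField y)
  have h2 := (IsFractionRing.isAlgebraic_iff (A ⧸ p) p.ResidueField q.ResidueField).2 h1
  exact (isAlgebraic_algebraMap_iff (R := A ⧸ p) (S := B ⧸ q) (A := q.ResidueField)
    (IsFractionRing.injective (B ⧸ q) q.ResidueField)).1 h2

/-- A geometric point of a weakly etale algebra over any point of the image. -/
theorem exists_geomPoint [Algebra.WeaklyEtale A B] (q : PrimeSpectrum B) :
    ∃ ψ : B →ₐ[A] AlgebraicClosure (PrimeSpectrum.comap (algebraMap A B) q).asIdeal.ResidueField,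
      RingHom.ker ψ = q.asIdeal := by
  let p := (PrimeSpectrum.comap (algebraMap A B) q).asIdeal
  letI := (Ideal.ResidueField.map p q.asIdeal (algebraMap A B) rfl).toAlgebra
  haveI : Algebra.IsAlgebraic p.ResidueField q.asIdeal.ResidueField :=
    ⟨isAlgebraic_residueField p q.asIdeal rfl⟩
  let g : q.asIdeal.ResidueField →ₐ[p.ResidueField] AlgebraicClosure p.ResidueField := IsAlgClosed.lift
  let ψ : B →ₐ[A] AlgebraicClosure p.ResidueField :=
    { toRingHom := g.toRingHom.comp (algebraMap B q.asIdeal.ResidueField)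
      commutes' := fun a => by
        show g (algebraMap B _ (algebraMap A B a)) = _
        rw [← Ideal.ResidueField.map_algebraMap p q.asIdeal (algebraMap A B) rfl a]
        show g (algebraMap p.ResidueField q.asIdeal.ResidueField (algebraMap A p.ResidueField a)) = _
        rw [g.commutes, ← IsScalarTower.algebraMap_apply] }
  refine ⟨ψ, ?_⟩
  show RingHom.ker (g.toRingHom.comp (algebraMap B q.asIdeal.ResidueField)) = _
  rw [RingHom.ker_comp_of_injective _ g.toRingHom.injective, Ideal.ker_algebraMap_residueField]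

/-- Isomorphic local rings at a prime give isomorphic local rings at its generisations. -/
theorem bijective_of_le (n q : Ideal B) [n.IsPrime] [q.IsPrime] (hqn : q ≤ n) (m p : Ideal A) [m.IsPrime]
    [p.IsPrime] (hm : m = n.comap (algebraMap A B)) (hp : p = q.comap (algebraMap A B))
    (h : Function.Bijective (Localization.localRingHom m n (algebraMap A B) hm)) :
    Function.Bijective (Localization.localRingHom p q (algebraMap A B) hp) := by
  have hfrac : ∀ b : B, ∃ (a v : A) (w : B), v ∉ m ∧ w ∉ n ∧ w * (b * algebraMap A B v - algebraMap A B a) = 0 := by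
    intro b
    obtain ⟨z, hz⟩ := h.2 (algebraMap B _ b)
    obtain ⟨a, ⟨v, hv⟩, rfl⟩ := IsLocalization.exists_mk'_eq m.primeCompl z
    rw [Localization.localRingHom_mk', IsLocalization.mk'_eq_iff_eq_mul, ← map_mul] at hz
    obtain ⟨⟨w, hw⟩, hwe⟩ := IsLocalization.exists_of_eq (M := n.primeCompl) hz
    exact ⟨a, v, w, hv, hw, by linear_combination -hwe⟩
  have hvq : ∀ {v : A}, v ∉ m → algebraMap A B v ∉ q := fun hv hq => hv (hm.ge (hqn hq))
  have hcq : ∀ {t w : B} {c v : A}, t ∉ q → v ∉ m → w ∉ n →
      w * (t * algebraMap A B v - algebraMap A B c) = 0 → c ∉ p := by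
    intro t w c v ht hv hw he hc
    have h1 : w * (t * algebraMap A B v) ∈ q := by
      rw [show w * (t * algebraMap A B v) = w * algebraMap A B c by linear_combination he]
      exact q.mul_mem_left _ (hp.le hc)
    rcases Ideal.IsPrime.mem_or_mem inferInstance h1 with h2 | h2
    · exact hw (hqn h2)
    · exact (Ideal.IsPrime.mem_or_mem inferInstance h2).elim ht (hvq hv)
  refine ⟨(injective_iff_map_eq_zero _).2 fun z hz => ?_, fun z => ?_⟩
  · obtain ⟨a, s, rfl⟩ := IsLocalization.exists_mk'_eq p.primeCompl z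
    rw [Localization.localRingHom_mk', IsLocalization.mk'_eq_zero_iff] at hz
    obtain ⟨⟨t, ht⟩, hta⟩ := hz
    obtain ⟨c, v, w, hv, hw, he⟩ := hfrac t
    have h0 : Localization.localRingHom m n (algebraMap A B) hm (algebraMap A _ (c * a)) = 0 := by
      rw [Localization.localRingHom_to_map, IsLocalization.map_eq_zero_iff n.primeCompl]
      refine ⟨⟨w, hw⟩, ?_⟩
      show w * algebraMap A B (c * a) = 0
      rw [map_mul]
      linear_combination (-algebraMap A B a) * he + (w * algebraMap A B v) * hta
    obtain ⟨⟨u, hu⟩, hua⟩ := (IsLocalization.map_eq_zero_iff m.primeCompl _ _).1 (h.1 (h0.trans (map_zero _).symm))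
    rw [IsLocalization.mk'_eq_zero_iff]
    refine ⟨⟨u * c, fun huc => ?_⟩, by rw [mul_assoc]; exact hua⟩
    rcases Ideal.IsPrime.mem_or_mem inferInstance huc with h1 | h1
    · exact hu (hm.ge (hqn (hp.le h1)))
    · exact hcq ht hv hw he h1
  · obtain ⟨d, ⟨t, ht⟩, rfl⟩ := IsLocalization.exists_mk'_eq q.primeCompl z
    obtain ⟨c, v, w, hv, hw, he⟩ := hfrac d
    obtain ⟨c', v', w', hv', hw', he'⟩ := hfrac t
    have hc' := hcq ht hv' hw' he'
    refine ⟨IsLocalization.mk' _ (c * v') (⟨c' * v, fun h1 => ?_⟩ : p.primeCompl), ?_⟩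
    · rcases Ideal.IsPrime.mem_or_mem inferInstance h1 with h2 | h2
      · exact hc' h2
      · exact hv (hm.ge (hqn (hp.le h2)))
    rw [Localization.localRingHom_mk', IsLocalization.mk'_eq_iff_eq,
      IsLocalization.eq_iff_exists q.primeCompl]
    refine ⟨⟨w * w', fun h1 => (Ideal.IsPrime.mem_or_mem inferInstance h1).elim
      (fun h => hw (hqn h)) (fun h => hw' (hqn h))⟩, ?_⟩
    show w * w' * (t * algebraMap A B (c * v')) = w * w' * (algebraMap A B (c' * v) * d)
    rw [map_mul, map_mul]
    linear_combination (-(w' * t * algebraMap A B v')) * he + (w * algebraMap A B v * d) * he'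

/-- Ind-etale covers of weakly etale algebras which are ind-etale over the base. -/
theorem exists_indEtale_cover [Algebra.WeaklyEtale A B] :
    ∃ (B' : Type u) (_ : CommRing B') (_ : Algebra B B') (_ : Algebra A B') (_ : IsScalarTower A B B'),
      Module.FaithfullyFlat B B' ∧ EtPBC.IsIndEtale B B' ∧ EtPBC.IsIndEtale A B' := by
  obtain ⟨C, _, _, hAC, hw, hsh, hpt⟩ := exists_cover A
  let X := C ⊗[A] B
  letI algBX : Algebra B X := Algebra.TensorProduct.rightAlgebra
  haveI : IsScalarTower A B X := IsScalarTower.of_algebraMap_eq fun a =>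
    ((Algebra.TensorProduct.includeRight : B →ₐ[A] X).commutes a).symm
  let eX : B ⊗[A] C ≃ₐ[B] X := AlgEquiv.ofRingEquiv (f := (Algebra.TensorProduct.comm A B C).toRingEquiv)
    fun b => rfl
  have hBX : EtPBC.IsIndEtale B X :=
    H1CAlg.IndEtale.isIndEtale_of_algEquiv eX (H1CAlg.IndEtale.isIndEtale_baseChange B hAC)
  let I : Ideal C := vanishingIdeal (ProEtW.closedPoints (PrimeSpectrum C))
  have hI0 : zeroLocus (I : Set C) = ProEtW.closedPoints (PrimeSpectrum C) := by
    rw [zeroLocus_vanishingIdeal_eq_closure]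
    exact hw.2.1.closure_eq
  obtain ⟨-, E, _, _, _, _, hXE, hbij, hwE, hmap, hcl⟩ :=
    Groth.Agent.S0737.result C X hw I (isRadical_vanishingIdeal _) hI0 algebraicResidueExtensions
  have hXE' := H1CAlg.Zar.isIndEtale_of_isIndZariski hXE
  haveI : Algebra.WeaklyEtale X E := H1CAlg.IndEtale.weaklyEtale_of_isIndEtale hXE'
  haveI : Algebra.WeaklyEtale C E := Algebra.WeaklyEtale.trans C X E
  have hid : EtPBC.IdentifiesLocalRings C E := fun q => by
    obtain ⟨n, hn, hle⟩ := Ideal.exists_le_maximal q.asIdeal q.isPrime.ne_top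
    have h1 : (⟨n, hn.isPrime⟩ : PrimeSpectrum E) ∈ ProEtW.closedPoints (PrimeSpectrum E) :=
      (isClosed_singleton_iff_isMaximal _).2 hn
    rw [hcl] at h1
    haveI := hn.isPrime
    haveI : (n.comap (algebraMap C E)).IsMaximal := (isClosed_singleton_iff_isMaximal _).1 h1
    exact bijective_of_le n q.asIdeal hle (n.comap (algebraMap C E)) _ rfl rfl
      (bijective_localRingHom _ (hsh _) n rfl)
  have hCE : EtPBC.IsIndEtale C E :=
    H1CAlg.Zar.isIndEtale_of_isIndZariski (isIndZariski_of_identifiesLocalRings C E hid hwE)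
  letI algBE : Algebra B E := ((algebraMap X E).comp (algebraMap B X)).toAlgebra
  haveI : IsScalarTower B X E := IsScalarTower.of_algebraMap_eq fun _ => rfl
  letI algAE : Algebra A E := ((algebraMap C E).comp (algebraMap A C)).toAlgebra
  haveI : IsScalarTower A C E := IsScalarTower.of_algebraMap_eq fun _ => rfl
  haveI : IsScalarTower A B E := IsScalarTower.of_algebraMap_eq fun a => by
    show algebraMap C E (algebraMap A C a) = algebraMap X E (algebraMap B X (algebraMap A B a))
    rw [← IsScalarTower.algebraMap_apply A B X, IsScalarTower.algebraMap_apply A C X,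
      ← IsScalarTower.algebraMap_apply C X E]
  have hBE := H1CAlg.IndEtale.isIndEtale_trans hBX hXE'
  haveI := H1CAlg.IndEtale.flat_of_isIndEtale hBE
  refine ⟨E, inferInstance, inferInstance, inferInstance, inferInstance,
    Module.FaithfullyFlat.of_comap_surjective fun q => ?_, hBE, H1CAlg.IndEtale.isIndEtale_trans hAC hCE⟩
  obtain ⟨f, hf⟩ := hpt (comap (algebraMap A B) q)
  obtain ⟨ψ, hψ⟩ := exists_geomPoint (A := A) q
  let P := Algebra.TensorProduct.lift f ψ fun _ _ => Commute.all _ _
  have hIP : I.map (algebraMap C X) ≤ RingHom.ker P := Ideal.map_le_iff_le_comap.2 fun c hc => by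
    show P (c ⊗ₜ 1) = 0
    rw [Algebra.TensorProduct.lift_tmul, map_one, mul_one]
    have h0 : c ∈ RingHom.ker f := (mem_vanishingIdeal _ c).1 hc ⟨RingHom.ker f, hf.isPrime⟩
      ((isClosed_singleton_iff_isMaximal _).2 hf)
    exact h0
  -- the point lifts to `E` as `X/IX = E/IE`
  let θ := RingEquiv.ofBijective _ hbij
  let P₀ : (X ⧸ I.map (algebraMap C X)) →+* AlgebraicClosure (comap (algebraMap A B) q).asIdeal.ResidueField :=
    Ideal.Quotient.lift _ P.toRingHom fun x hx => hIP hx
  let P' : E →+* AlgebraicClosure (comap (algebraMap A B) q).asIdeal.ResidueField :=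
    (P₀.comp θ.symm.toRingHom).comp (Ideal.Quotient.mk _)
  have hP' : ∀ x : X, P' (algebraMap X E x) = P x := fun x => by
    show P₀ (θ.symm (Ideal.Quotient.mk _ (algebraMap X E x))) = _
    rw [show θ.symm (Ideal.Quotient.mk _ (algebraMap X E x)) = Ideal.Quotient.mk _ x from
      θ.injective (by rw [θ.apply_symm_apply]; rfl)]
    rfl
  refine ⟨⟨RingHom.ker P', RingHom.ker_isPrime _⟩, PrimeSpectrum.ext (Ideal.ext fun b => ?_)⟩
  show P' (algebraMap X E (algebraMap B X b)) = 0 ↔ _
  rw [hP', show algebraMap B X b = (1 : C) ⊗ₜ[A] b from rfl, Algebra.TensorProduct.lift_tmul, map_one,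
    one_mul, ← RingHom.mem_ker, ← Ideal.ext_iff.1 hψ b]

end Groth.Agent.H1WE
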