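import Groth.Agent.H1WE.Olivier
import Groth.Agent.S7127
import Groth.Agent.S1996
import Groth.Agent.S0539
import Groth.Agent.S0537
import Groth.Agent.S12237
import Groth.Agent.S0736

/-!
# Weakly etale local homomorphisms and strict henselizations
-/

set_option autoImplicit false
set_option linter.style.haveILetI false
universe u

namespace Groth.Agent.H1WE

open IsLocalRing

variable (A B R : Type u) [CommRing A] [IsLocalRing A] [CommRing B] [IsLocalRing B] [CommRing R] [IsLocalRing R]
  [Algebra A B] [Algebra B R] [Algebra A R] [IsScalarTower A B R] [IsLocalHom (algebraMap B R)]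
  [IsLocalHom (algebraMap A R)] [Hensel.IsStrictHenselization B R]

theorem isStrictHenselization_of_weaklyEtale [Algebra.WeaklyEtale A B] :
    Hensel.IsStrictHenselization A R := by
  haveI : Algebra.WeaklyEtale B R := Groth.Agent.S0736.result B R (Groth.Agent.S12237.result B R)
  haveI : Algebra.WeaklyEtale A R := Algebra.WeaklyEtale.trans A B R
  obtain ⟨S, _, _, _, _, hS⟩ := Groth.Agent.S0537.result A
  haveI := hS
  haveI : HenselianLocalRing S := hS.henselian
  haveI hR : HenselianLocalRing R := Hensel.IsStrictHenselization.henselian (R := B) (S := R)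
  haveI : IsSepClosed (ResidueField R) := (Hensel.IsStrictHenselization.isSepClosure (R := B) (S := R)).1
  haveI : IsSepClosed (ResidueField S) := hS.isSepClosure.1
  haveI := hS.isSepClosure.2
  let τ : ResidueField S →ₐ[ResidueField A] ResidueField R := IsSepClosed.lift
  obtain ⟨g, ⟨hg, hgτ⟩, -⟩ := hS.universal R (algebraMap A R) τ.toRingHom
    (RingHom.ext fun x => τ.commutes x)
  letI : Algebra S R := g.toAlgebra
  haveI : IsScalarTower A S R := IsScalarTower.of_algebraMap_eq fun a => (RingHom.congr_fun hg a).symm
  haveI hloc : IsLocalHom (algebraMap S R) := ⟨fun x hx => residue_ne_zero_iff_isUnit x |>.1 fun h0 => by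
    have h1 := hgτ x
    rw [h0, map_zero] at h1
    exact (residue_ne_zero_iff_isUnit _).2 hx h1⟩
  haveI : Algebra.WeaklyEtale A S := Groth.Agent.S0736.result A S (Groth.Agent.S12237.result A S)
  haveI : Algebra.WeaklyEtale S R := Groth.Agent.S7127.result A S R
  let e : S ≃+* R := RingEquiv.ofBijective (algebraMap S R) (bijective_of_weaklyEtale (A := S) (B := R))
  have heA : ∀ a, e (algebraMap A S a) = algebraMap A R a := fun a => (IsScalarTower.algebraMap_apply A S R a).symm
  refine ⟨hR, ⟨inferInstance, ?_⟩, fun T _ _ f _ σ hσ => ?_⟩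
  · refine Algebra.IsSeparable.of_equiv_equiv (RingEquiv.refl (ResidueField A)) (ResidueField.mapEquiv e)
      (RingHom.ext fun y => ?_)
    obtain ⟨a, rfl⟩ := residue_surjective y
    show residue R (algebraMap A R a) = residue R (e (algebraMap A S a))
    rw [heA]
  · have hσ' : (σ.comp (ResidueField.mapEquiv e).toRingHom).comp (ResidueField.map (algebraMap A S)) =
        ResidueField.map f := by
      rw [← hσ]
      refine RingHom.ext fun y => ?_
      obtain ⟨a, rfl⟩ := residue_surjective y
      show σ (residue R (e (algebraMap A S a))) = σ (residue R (algebraMap A R a))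
      rw [heA]
    obtain ⟨G, ⟨hG, hGσ⟩, hu⟩ := hS.universal T f (σ.comp (ResidueField.mapEquiv e).toRingHom) hσ'
    refine ⟨G.comp e.symm.toRingHom, ⟨RingHom.ext fun a => ?_, fun x => ?_⟩, fun G' hG' => ?_⟩
    · show G (e.symm (algebraMap A R a)) = f a
      rw [← heA, e.symm_apply_apply]
      exact RingHom.congr_fun hG a
    · show residue T (G (e.symm x)) = _
      rw [hGσ]
      show σ (residue R (e (e.symm x))) = _
      rw [e.apply_symm_apply]
    · have h2 := hu (G'.comp e.toRingHom) ⟨RingHom.ext fun a => by
        show G' (e (algebraMap A S a)) = f a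
        rw [heA]
        exact RingHom.congr_fun hG'.1 a, fun x => hG'.2 (e x)⟩
      refine RingHom.ext fun x => ?_
      show G' x = G (e.symm x)
      rw [← h2]
      show G' x = G' (e (e.symm x))
      rw [e.apply_symm_apply]

theorem weaklyEtale_of_isStrictHenselization [Hensel.IsStrictHenselization A R] : Algebra.WeaklyEtale A B := by
  haveI : Algebra.WeaklyEtale A R := Groth.Agent.S0736.result A R (Groth.Agent.S12237.result A R)
  haveI : Module.FaithfullyFlat B R := Groth.Agent.S0539.result B R
  exact Groth.Agent.S1996.result A B R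

end Groth.Agent.H1WE
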